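import Cfsg.Agent.UGT.RelK.Canon
import Cfsg.Agent.UGT.Res.Abel
import Cfsg.Agent.GH.XSet

set_option autoImplicit false
set_option linter.unusedSectionVars false

/-!
# Supplements to Theorem REL-K (bb #8932 (6), (7))

* `isComponent`: if `⁅O(C(a)), K⁆ = 1` then `K` is a component of `C(a)`.
* `isComp_inf`: `X` a 2-component of `H`, `M ≤ H`, `K = O^{2'}(K) ≤ X ∩ M` covering `X / O(X)`:
  `O^{2'}(X ∩ M)` is a 2-component of `M` containing `K`.
* `comm_le_core`: `⁅O(C(a)) ∩ H, K⁆ ≤ O(H)` if `H` has the B-property.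
* `odd_or`: `⟨⁅O(C(a)), K⁆ : a ∈ A^#⟩` has odd order or generates `G` together with `KA` (all proper subgroups of `G`
  having the B-property).
-/

open Cfsg Subgroup
open Cfsg.Agent.SignalizersComponents Cfsg.Agent.Lib
open Cfsg.Agent.SignalizersComponents.IntrinsicBasic
open Cfsg.Agent.SignalizersComponents.IntrinsicIntr
open Cfsg.Agent.SignalizersComponents.PLayerAut
open Cfsg.Agent.Intrinsic.Basic Cfsg.Agent.Intrinsic.Cen Cfsg.Agent.Intrinsic.Diag
open Cfsg.Agent.Lib.CoprimeCommutator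
open Cfsg.Agent.SignalizersComponents.GoldschmidtGen (le_normalizer_of_conj_mem
  conj_mem_of_le_normalizer le_normalizer_sup)
open Cfsg.Agent.UGT.RelK.Functor Cfsg.Agent.UGT.RelK.Out
open Cfsg.Agent.UGT.RelK.Gen (mem_cent_singleton cent_le_cent_singleton)
open scoped commutatorElement

namespace Cfsg.Agent.UGT.RelK.Sub

universe u

variable {G : Type u} [Group G] [Finite G]

/-! ### (6) -/

/-- A 2-component centralising its core is quasisimple. -/
theorem isQuasisimple_of_core {H K : Subgroup G} (hK : IsComp H K)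
    (hc : core K ≤ centralizer (K : Set G)) : IsQuasisimple ↥K := by
  have hcen : oddCore ↥K ≤ center ↥K := by
    intro x hx
    rw [mem_center_iff]
    intro y
    have h1 : (x : G) ∈ core K := ⟨x, hx, rfl⟩
    exact Subtype.ext (mem_centralizer_iff.1 (hc h1) y y.2)
  have hperf : Group.IsPerfect ↥K := by
    rw [Group.isPerfect_def]
    apply Subgroup.map_injective K.subtype_injective
    rw [commutator_def, Subgroup.map_commutator, ← MonoidHom.range_eq_map, Subgroup.range_subtype]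
    exact hK.perfect
  exact PCompQuot.quasisimple_of_central_quotient hperf hcen (isComp_iff.mp hK).2.2.1

theorem isComponent_of_core {H K : Subgroup G} (hK : IsComp H K)
    (hc : core K ≤ centralizer (K : Set G)) : IsComponent (K.subgroupOf H) :=
  ⟨hK.2.1, isQuasisimple_of_equiv (Subgroup.subgroupOfEquivOfLe hK.le).symm
    (isQuasisimple_of_core hK hc)⟩

/-- **(6)** if `DD K a = 1` then `K` is a component of `C(a)`. -/
theorem isComponent {A K : Subgroup G} {N : G → Subgroup G} (h : Term A K N) {a : G} (ha : a ∈ A)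
    (ha1 : a ≠ 1) (hD : DD K a = ⊥) :
    IsQuasisimple ↥K ∧ IsComponent (K.subgroupOf (centralizer ({a} : Set G))) ∧ N a = K := by
  obtain ⟨h1, h2⟩ := h.quasisimple ha ha1 hD
  exact ⟨isQuasisimple_of_core h1 h2, isComponent_of_core h1 h2, h.N_eq_of_bot ha ha1 hD⟩

/-! ### (7) -/

/-- The 2-component of `M` inside a 2-component of `H ≥ M`. -/
theorem isComp_inf {H X M K : Subgroup G} (hX : IsComp H X) (hM : M ≤ H) (hKM : K ≤ M)
    (hK : PComponents.pElem 2 K = K) (hs : K ⊔ core X = X) :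
    IsComp M (PComponents.pElem 2 (X ⊓ M)) ∧ K ≤ PComponents.pElem 2 (X ⊓ M) ∧
      PComponents.pElem 2 (X ⊓ M) ⊔ core X = X := by
  have hKX : K ≤ X := by rw [← hs]; exact le_sup_left
  have hle : K ≤ X ⊓ M := le_inf hKX hKM
  have hs' : (X ⊓ M) ⊔ core X = X := by
    refine le_antisymm (sup_le inf_le_left (core_le X)) ?_
    conv_lhs => rw [← hs]
    exact sup_le_sup hle le_rfl
  obtain ⟨h1, h2⟩ := GH.XSet.isComp_pElem hX hs'
  refine ⟨h1.extend inf_le_right ?_, ?_, h2⟩
  · have h3 := hX.2.1.comap (inclusion hM)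
    convert h3 using 1
    ext ⟨y, hy⟩
    simp only [mem_subgroupOf, mem_comap, mem_inf]
    exact ⟨fun h => h.1, fun h => ⟨h, hy⟩⟩
  · rw [← hK]
    exact PComponents.pElem_mono hle

/-- **(7)** -/
theorem comm_le_core {H K X : Subgroup G} {a : G} (hB : HasBProperty ↥H) (ha : orderOf a = 2)
    (haH : a ∈ H) (hKH : K ≤ H) (hKa : K ≤ centralizer ({a} : Set G))
    (hX : IsComp (centralizer ({a} : Set G)) X) (hK : PComponents.pElem 2 K = K)
    (hs : K ⊔ core X = X) : ⁅core (centralizer ({a} : Set G)) ⊓ H, K⁆ ≤ core H := by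
  obtain ⟨h1, h2, -⟩ := isComp_inf hX (M := H ⊓ centralizer ({a} : Set G)) inf_le_right
    (le_inf hKH hKa) hK hs
  rw [commutator_comm, commutator_le]
  intro k hk r hr
  exact Res.Abel.comm_of_B hB haH ha h1 (PumpGen.inf_le_core' hr.1 hr.2) (h2 hk)

/-- `⟨⁅O(C(a)), K⁆ : a ∈ A^#⟩` is odd or generates `G` together with `K` and `A`. -/
theorem odd_or {A K : Subgroup G} {N : G → Subgroup G} (h : Term A K N)
    (hB : ∀ H : Subgroup G, H ≠ ⊤ → HasBProperty ↥H) :
    (Odd (Nat.card (WW A (DD K))) ∧ ∀ a ∈ A, a ≠ 1 → DD K a ≤ core (WW A (DD K) ⊔ K ⊔ A)) ∨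
      WW A (DD K) ⊔ K ⊔ A = ⊤ := by
  by_cases htop : WW A (DD K) ⊔ K ⊔ A = ⊤
  · exact Or.inr htop
  left
  obtain ⟨H, hH⟩ : ∃ H, H = WW A (DD K) ⊔ K ⊔ A := ⟨_, rfl⟩
  have hWH : WW A (DD K) ≤ H := hH ▸ le_sup_left.trans le_sup_left
  have hKH : K ≤ H := hH ▸ le_sup_right.trans le_sup_left
  have hAH : A ≤ H := hH ▸ le_sup_right
  have key : ∀ a ∈ A, a ≠ 1 → DD K a ≤ core H := by
    intro a ha ha1
    have hDH : DD K a ≤ H := (D_le_WW (D := DD K) ha ha1).trans hWH
    have h1 := comm_le_core (hB H (hH ▸ htop)) (h.order ha ha1) (hAH ha) hKH (h.K_le_cent ha)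
      (h.isComp a ha ha1) h.comp.pElem_eq (h.sup a ha ha1)
    refine le_trans ?_ h1
    have h2 : DD K a ≤ ⁅DD K a, K⁆ := comm_idem h.perf (h.solv a ha ha1) (h.K_norm_core ha)
    exact h2.trans (commutator_mono (le_inf (h.DD_le ha) hDH) le_rfl)
  rw [← hH]
  refine ⟨?_, key⟩
  have h3 : WW A (DD K) ≤ core H := iSup_le fun a => key a a.2.1 a.2.2
  exact Odd.of_dvd_nat (odd_card_core H) (card_dvd_of_le h3)

end Cfsg.Agent.UGT.RelK.Sub
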