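import Cfsg.Agent.UGT.RelK.Out
import Cfsg.Agent.Involutions.NormalFour

set_option autoImplicit false
set_option linter.unusedSectionVars false

/-!
# Theorem REL-K: canonicity

`TermQ Q K N`: `Q` is a 2-group centralising `K`, and `N y = K O(N y)` is a 2-component of `C(y)` for every
involution `y ∈ Q`. If `Q` contains an elementary abelian subgroup of order 16, the group `⟨⁅O(C(a)), K⁆ : 1 ≠ a ∈ A⟩` is
the same for all elementary abelian `A ≤ Q` of order at least 16 (`TermQ.W_eq`), and normalised by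
`N(Q) ∩ N(K)` (`TermQ.mem_norm`).
-/

open Cfsg Subgroup
open Cfsg.Agent.SignalizersComponents Cfsg.Agent.Lib
open Cfsg.Agent.SignalizersComponents.IntrinsicBasic
open Cfsg.Agent.SignalizersComponents.IntrinsicIntr
open Cfsg.Agent.Intrinsic.Basic Cfsg.Agent.Intrinsic.Cen Cfsg.Agent.Intrinsic.Diag
open Cfsg.Agent.Lib.CoprimeCommutator
open Cfsg.Agent.SignalizersComponents.GoldschmidtGen (le_normalizer_of_conj_mem
  conj_mem_of_le_normalizer le_normalizer_sup)
open Cfsg.Agent.UGT.RelK.Functor Cfsg.Agent.UGT.RelK.Out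
open Cfsg.Agent.UGT.RelK.Gen (mem_cent_singleton cent_le_cent_singleton)
open scoped commutatorElement

namespace Cfsg.Agent.UGT.RelK.Canon

universe u

variable {G : Type u} [Group G] [Finite G]

/-! ### Elementary abelian subgroups of a 2-group -/

/-- A 2-group with an elementary abelian subgroup of order 8 has a normal four-group. -/
theorem exists_four {Q A : Subgroup G} (hQ : IsPGroup 2 Q) (hAQ : A ≤ Q)
    (hA : IsElementaryAbelian 2 A) (hA8 : 8 ≤ Nat.card A) :
    ∃ U : Subgroup G, U ≤ Q ∧ Q ≤ normalizer (U : Set G) ∧ Nat.card U = 4 ∧ IsElementaryAbelian 2 U := by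
  have h2 : Fact (Nat.Prime 2) := ⟨Nat.prime_two⟩
  -- a subgroup of order 8
  obtain ⟨k, hk⟩ := (CoprimeGen.isPGroup_of_isElementaryAbelian hA).exists_card_eq
  have hk3 : 3 ≤ k := by
    by_contra hcon
    have : 2 ^ k ≤ 2 ^ 2 := Nat.pow_le_pow_right (by norm_num) (by omega)
    omega
  obtain ⟨B, hB⟩ := Sylow.exists_subgroup_card_pow_prime (G := ↥A) 2 (n := 3)
    (by rw [hk]; exact pow_dvd_pow 2 hk3)
  have hBmap : B.map A.subtype ≤ Q := (map_subtype_le _).trans hAQ
  obtain ⟨U, hUn, hU4, hU2⟩ := Involutions.NormalFour.exists_normal_four hQ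
    ((B.map A.subtype).subgroupOf Q) (by
      rw [Nat.card_congr (Subgroup.subgroupOfEquivOfLe hBmap).toEquiv,
        Subgroup.card_map_of_injective A.subtype_injective, hB]; norm_num) (by
      rintro ⟨e, he⟩ he'
      obtain ⟨⟨a, ha⟩, -, rfl⟩ := he'
      exact Subtype.ext (hA.2 a ha))
  refine ⟨U.map Q.subtype, map_subtype_le _, ?_, ?_, ?_⟩
  · apply le_normalizer_of_conj_mem
    rintro q hq _ ⟨u, hu, rfl⟩
    exact ⟨_, hUn.conj_mem u hu ⟨q, hq⟩, rfl⟩
  · rw [Subgroup.card_map_of_injective Q.subtype_injective, hU4]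
  · have hsq : ∀ u ∈ U.map Q.subtype, u ^ 2 = 1 := by
      rintro _ ⟨u, hu, rfl⟩
      rw [← map_pow, hU2 u hu, map_one]
    refine ⟨⟨⟨fun x y => ?_⟩⟩, hsq⟩
    apply Subtype.ext
    have h1 := hsq _ (mul_mem x.2 y.2)
    have h3 := hsq _ x.2
    have h4 := hsq _ y.2
    show (x : G) * y = y * x
    have hx : (x : G)⁻¹ = x := inv_eq_of_mul_eq_one_left (by rw [← pow_two]; exact h3)
    have hy : (y : G)⁻¹ = y := inv_eq_of_mul_eq_one_left (by rw [← pow_two]; exact h4)
    have hxy : ((x : G) * y)⁻¹ = x * y := inv_eq_of_mul_eq_one_left (by rw [← pow_two]; exact h1)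
    rw [← hxy, mul_inv_rev, hx, hy]

/-- the elements of a four-group -/
theorem four_cases {U : Subgroup G} (hU4 : Nat.card U = 4) (hU : IsElementaryAbelian 2 U) {u u' : G}
    (hu : u ∈ U) (hu'U : u' ∈ U) (hu1 : u ≠ 1) (hu'1 : u' ≠ 1) (hne : u' ≠ u) {w : G} (hw : w ∈ U) :
    w = 1 ∨ w = u ∨ w = u' ∨ w = u * u' := by
  classical
  by_contra hcon
  push Not at hcon
  obtain ⟨h1, h3, h4, h5⟩ := hcon
  have huu : u * u' ≠ 1 := by
    intro h
    apply hne
    have h6 : u * u = 1 := by rw [← pow_two]; exact hU.2 u hu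
    exact mul_left_cancel (h.trans h6.symm)
  have h6 : u * u' ≠ u := fun h => hu'1 (mul_left_cancel (h.trans (mul_one u).symm))
  have h7 : u * u' ≠ u' := fun h => hu1 (mul_right_cancel (h.trans (one_mul u').symm))
  have : ({1, u, u', u * u', w} : Finset G).card = 5 := by
    rw [Finset.card_insert_of_notMem, Finset.card_insert_of_notMem,
      Finset.card_insert_of_notMem, Finset.card_insert_of_notMem, Finset.card_singleton]
    · simp only [Finset.mem_singleton]; exact fun h => h5 h.symm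
    · simp only [Finset.mem_insert, Finset.mem_singleton, not_or]
      exact ⟨fun h => h7 h.symm, fun h => h4 h.symm⟩
    · simp only [Finset.mem_insert, Finset.mem_singleton, not_or]
      exact ⟨fun h => hne h.symm, fun h => h6 h.symm, fun h => h3 h.symm⟩
    · simp only [Finset.mem_insert, Finset.mem_singleton, not_or]
      exact ⟨fun h => hu1 h.symm, fun h => hu'1 h.symm, fun h => huu h.symm, fun h => h1 h.symm⟩
  have hsub : (({1, u, u', u * u', w} : Finset G) : Set G) ⊆ (U : Set G) := by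
    intro y hy
    simp only [Finset.coe_insert, Finset.coe_singleton, Set.mem_insert_iff,
      Set.mem_singleton_iff] at hy
    rcases hy with rfl | rfl | rfl | rfl | rfl
    · exact one_mem _
    · exact hu
    · exact hu'U
    · exact mul_mem hu hu'U
    · exact hw
  have h8 := Set.ncard_le_ncard hsub (Set.toFinite (U : Set G))
  rw [Set.ncard_coe_finset, this, ← Nat.card_coe_set_eq] at h8
  have h9 : Nat.card ↥(U : Set G) = 4 := hU4
  omega

/-- An elementary abelian 2-group normalising a four-group `U` has a subgroup of index at most two centralising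
`U`. -/
theorem card_le_two_mul {A U : Subgroup G} (hA : IsElementaryAbelian 2 A)
    (hAU : A ≤ normalizer (U : Set G)) (hU4 : Nat.card U = 4) (hU : IsElementaryAbelian 2 U) :
    Nat.card A ≤ 2 * Nat.card ↥(A ⊓ centralizer (U : Set G)) := by
  have hcommA := CoprimeGen.comm_of_isElementaryAbelian hA
  have hcommU := CoprimeGen.comm_of_isElementaryAbelian hU
  obtain ⟨C, hC⟩ : ∃ C, C = A ⊓ centralizer (U : Set G) := ⟨_, rfl⟩
  rw [← hC]
  by_cases hAC : A ≤ centralizer (U : Set G)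
  · have : C = A := by rw [hC]; exact inf_eq_left.2 hAC
    rw [this]; omega
  obtain ⟨a₀, ha₀, ha₀U⟩ : ∃ a ∈ A, a ∉ centralizer (U : Set G) := by
    by_contra hcon
    push Not at hcon
    exact hAC hcon
  obtain ⟨u, hu, hau⟩ : ∃ u ∈ U, u * a₀ ≠ a₀ * u := by
    by_contra hcon
    push Not at hcon
    exact ha₀U (mem_centralizer_iff.2 hcon)
  obtain ⟨u', hu'⟩ : ∃ u', u' = a₀ * u * a₀⁻¹ := ⟨_, rfl⟩
  have hu'U : u' ∈ U := hu' ▸ conj_mem_of_le_normalizer hAU ha₀ hu
  have hne : u' ≠ u := by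
    intro h
    apply hau
    rw [hu'] at h
    have h3 := congrArg (fun t => t * a₀) h
    simp only [inv_mul_cancel_right] at h3
    exact h3.symm
  have hu1 : u ≠ 1 := by
    rintro rfl
    apply hau; rw [one_mul, mul_one]
  have hu'1 : u' ≠ 1 := by
    intro h
    apply hu1
    rw [hu'] at h
    have : u = a₀⁻¹ * (a₀ * u * a₀⁻¹) * a₀ := by group
    rw [this, h]; group
  have ha₀2 : a₀ * a₀ = 1 := by rw [← pow_two]; exact hA.2 a₀ ha₀
  have ha₀i : a₀⁻¹ = a₀ := inv_eq_of_mul_eq_one_left ha₀2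
  have hback : a₀ * u' * a₀⁻¹ = u := by
    rw [hu', ha₀i]
    calc a₀ * (a₀ * u * a₀) * a₀ = (a₀ * a₀) * u * (a₀ * a₀) := by group
      _ = u := by rw [ha₀2, one_mul, mul_one]
  -- an element of `A` commuting with `u` centralises `U`
  have hfix : ∀ a ∈ A, a * u * a⁻¹ = u → a ∈ C := by
    intro a ha h
    rw [hC]
    refine ⟨ha, ?_⟩
    have hau : a * u = u * a := by
      have := congrArg (fun t => t * a) h
      simpa using this
    have hau' : a * u' = u' * a := by
      rw [hu', ha₀i]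
      calc a * (a₀ * u * a₀) = (a * a₀) * u * a₀ := by group
        _ = (a₀ * a) * u * a₀ := by rw [hcommA a ha a₀ ha₀]
        _ = a₀ * (a * u) * a₀ := by group
        _ = a₀ * (u * a) * a₀ := by rw [hau]
        _ = a₀ * u * (a * a₀) := by group
        _ = a₀ * u * (a₀ * a) := by rw [hcommA a ha a₀ ha₀]
        _ = a₀ * u * a₀ * a := by group
    refine mem_centralizer_iff.2 fun w hw => ?_
    rcases four_cases hU4 hU hu hu'U hu1 hu'1 hne hw with rfl | rfl | rfl | rfl
    · rw [one_mul, mul_one]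
    · exact hau.symm
    · exact hau'.symm
    · rw [mul_assoc, ← hau', ← mul_assoc, ← hau, mul_assoc]
  have hcov : (A : Set G) ⊆ (C : Set G) ∪ ((fun x => a₀ * x) '' (C : Set G)) := by
    intro a ha
    have haU := conj_mem_of_le_normalizer hAU ha hu
    rcases four_cases hU4 hU hu hu'U hu1 hu'1 hne haU with h | h | h | h
    · exfalso
      apply hu1
      have : u = a⁻¹ * (a * u * a⁻¹) * a := by group
      rw [this, h]; group
    · exact Or.inl (hfix a ha h)
    · right
      refine ⟨a₀⁻¹ * a, hfix _ (mul_mem (inv_mem ha₀) ha) ?_, by simp⟩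
      calc a₀⁻¹ * a * u * (a₀⁻¹ * a)⁻¹ = a₀⁻¹ * (a * u * a⁻¹) * a₀ := by group
        _ = a₀⁻¹ * u' * a₀ := by rw [h]
        _ = u := by rw [hu']; group
    · exfalso
      -- `a u a⁻¹ = u u'` is fixed by `a₀`
      have h1 : a₀ * (a * u * a⁻¹) * a₀⁻¹ = a * u' * a⁻¹ := by
        rw [hu']
        calc a₀ * (a * u * a⁻¹) * a₀⁻¹ = (a₀ * a) * u * (a₀ * a)⁻¹ := by group
          _ = (a * a₀) * u * (a * a₀)⁻¹ := by rw [hcommA a₀ ha₀ a ha]
          _ = a * (a₀ * u * a₀⁻¹) * a⁻¹ := by group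
      have h3 : a₀ * (u * u') * a₀⁻¹ = u * u' := by
        calc a₀ * (u * u') * a₀⁻¹ = (a₀ * u * a₀⁻¹) * (a₀ * u' * a₀⁻¹) := by group
          _ = u' * u := by rw [← hu', hback]
          _ = u * u' := hcommU u' hu'U u hu
      rw [h, h3] at h1
      apply hne
      have h4 : a * u' * a⁻¹ = a * u * a⁻¹ := by rw [h, ← h1]
      have h5 : a⁻¹ * (a * u' * a⁻¹) * a = a⁻¹ * (a * u * a⁻¹) * a := by rw [h4]
      calc u' = a⁻¹ * (a * u' * a⁻¹) * a := by group
        _ = a⁻¹ * (a * u * a⁻¹) * a := h5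
        _ = u := by group
  have h1 := Set.ncard_le_ncard hcov (Set.toFinite _)
  have h2 := Set.ncard_union_le (C : Set G) ((fun x => a₀ * x) '' (C : Set G))
  have h3 := Set.ncard_image_le (f := fun x => a₀ * x) (Set.toFinite (C : Set G))
  have h4 : (A : Set G).ncard = Nat.card A := rfl
  have h5 : (C : Set G).ncard = Nat.card C := rfl
  omega

/-- `U C_A(U)` for a normal four-group `U` of `Q ≥ A`. -/
theorem exists_mix {Q A U : Subgroup G} (hAQ : A ≤ Q)
    (hA : IsElementaryAbelian 2 A) (hA16 : 16 ≤ Nat.card A) (hUQ : U ≤ Q)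
    (hUn : Q ≤ normalizer (U : Set G)) (hU4 : Nat.card U = 4) (hU : IsElementaryAbelian 2 U) :
    ∃ A' : Subgroup G, A' ≤ Q ∧ IsElementaryAbelian 2 A' ∧ 16 ≤ Nat.card A' ∧ U ≤ A' ∧
      ∃ C, C ≤ A ∧ C ≤ A' ∧ 8 ≤ Nat.card C := by
  have h2 : Fact (Nat.Prime 2) := ⟨Nat.prime_two⟩
  obtain ⟨C, hC⟩ : ∃ C, C = A ⊓ centralizer (U : Set G) := ⟨_, rfl⟩
  have hCA : C ≤ A := hC ▸ inf_le_left
  have hCU : C ≤ centralizer (U : Set G) := hC ▸ inf_le_right
  have hcommA := CoprimeGen.comm_of_isElementaryAbelian hA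
  have hcommU := CoprimeGen.comm_of_isElementaryAbelian hU
  have hidx : Nat.card A ≤ 2 * Nat.card C := hC ▸ card_le_two_mul hA (hAQ.trans hUn) hU4 hU
  have hCn : C ≤ normalizer (U : Set G) := (hCA.trans hAQ).trans hUn
  have hmem : ∀ x, x ∈ U ⊔ C ↔ ∃ u ∈ U, ∃ c ∈ C, u * c = x := CoprimeBasic.mem_sup_iff hCn
  have hel : IsElementaryAbelian 2 (U ⊔ C) := by
    have hcc : ∀ u ∈ U, ∀ c ∈ C, u * c = c * u := fun u hu c hc => mem_centralizer_iff.1 (hCU hc) u hu
    refine ⟨⟨⟨?_⟩⟩, ?_⟩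
    · rintro ⟨x, hx⟩ ⟨y, hy⟩
      obtain ⟨u, hu, c, hc, rfl⟩ := (hmem x).1 hx
      obtain ⟨v, hv, d, hd, rfl⟩ := (hmem y).1 hy
      apply Subtype.ext
      show u * c * (v * d) = v * d * (u * c)
      calc u * c * (v * d) = u * (c * v) * d := by group
        _ = u * (v * c) * d := by rw [hcc v hv c hc]
        _ = (u * v) * (c * d) := by group
        _ = (v * u) * (d * c) := by rw [hcommU u hu v hv, hcommA c (hCA hc) d (hCA hd)]
        _ = v * (u * d) * c := by group
        _ = v * (d * u) * c := by rw [hcc u hu d hd]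
        _ = v * d * (u * c) := by group
    · intro x hx
      obtain ⟨u, hu, c, hc, rfl⟩ := (hmem x).1 hx
      have h3 : Commute u c := hcc u hu c hc
      rw [h3.mul_pow, hU.2 u hu, hA.2 c (hCA hc), one_mul]
  refine ⟨U ⊔ C, sup_le hUQ (hCA.trans hAQ), hel, ?_, le_sup_left, C, hCA, le_sup_right, by omega⟩
  -- the order
  by_cases hUC : U ≤ C
  · -- `U ≤ A`: `C = A`
    have h3 : A ≤ centralizer (U : Set G) := fun a ha => mem_centralizer_iff.2 fun u hu =>
      hcommA u (hCA (hUC hu)) a ha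
    have h4 : C = A := by rw [hC]; exact inf_eq_left.2 h3
    rw [h4, sup_eq_right.2 (h4 ▸ hUC)]
    exact hA16
  · have h3 : C < U ⊔ C := lt_of_le_of_ne le_sup_right fun h => hUC (by rw [h]; exact le_sup_left)
    -- a proper subgroup has at most half the order
    obtain ⟨m, hm⟩ := card_dvd_of_le h3.le
    have h4 : Nat.card C < Nat.card ↥(U ⊔ C) := by
      refine lt_of_le_of_ne (Nat.card_le_card_of_injective _ (inclusion_injective h3.le)) fun h => ?_
      exact h3.ne (Subgroup.eq_of_le_of_card_ge h3.le h.ge)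
    rw [hm] at h4 ⊢
    have h5 : 2 ≤ m := by
      rcases m with _ | _ | m
      · simp at h4
      · simp at h4
      · omega
    calc 16 ≤ Nat.card C * 2 := by omega
      _ ≤ Nat.card C * m := Nat.mul_le_mul_left _ h5

/-! ### Canonicity -/

/-- `K` is terminal with respect to the 2-group `Q`. -/
structure TermQ (Q K : Subgroup G) (N : G → Subgroup G) : Prop where
  two : IsPGroup 2 Q
  comp : IsComp K K
  comm : Q ≤ centralizer (K : Set G)
  isComp : ∀ a ∈ Q, orderOf a = 2 → IsComp (centralizer {a}) (N a)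
  le : ∀ a ∈ Q, orderOf a = 2 → K ≤ N a
  sup : ∀ a ∈ Q, orderOf a = 2 → K ⊔ core (N a) = N a
  solv : ∀ a ∈ Q, orderOf a = 2 → Group.IsSolvable (core (centralizer {a}))

namespace TermQ

variable {Q K : Subgroup G} {N : G → Subgroup G} (h : TermQ Q K N)

include h

theorem term {A : Subgroup G} (hAQ : A ≤ Q) (hA : IsElementaryAbelian 2 A) : Term A K N := by
  have h2 : Fact (Nat.Prime 2) := ⟨Nat.prime_two⟩
  have ho : ∀ a ∈ A, a ≠ 1 → orderOf a = 2 := fun a ha ha1 => orderOf_eq_prime (hA.2 a ha) ha1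
  exact ⟨hA, h.comp, hAQ.trans h.comm, fun a ha ha1 => h.isComp a (hAQ ha) (ho a ha ha1),
    fun a ha ha1 => h.le a (hAQ ha) (ho a ha ha1), fun a ha ha1 => h.sup a (hAQ ha) (ho a ha ha1),
    fun a ha ha1 => h.solv a (hAQ ha) (ho a ha ha1)⟩

variable {P : Subgroup G} (hPK : P ≤ K) (hP2 : IsPGroup 2 P) (hP : Gens P K)

include hPK hP2 hP

/-- `W` is the same for all `A`. -/
theorem W_eq {A A' : Subgroup G} (hAQ : A ≤ Q) (hA : IsElementaryAbelian 2 A) (hA16 : 16 ≤ Nat.card A)
    (hAQ' : A' ≤ Q) (hA' : IsElementaryAbelian 2 A') (hA16' : 16 ≤ Nat.card A') :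
    WW A (DD K) = WW A' (DD K) := by
  obtain ⟨U, hUQ, hUn, hU4, hU⟩ := exists_four h.two hAQ hA (by omega)
  have key : ∀ {B : Subgroup G}, B ≤ Q → IsElementaryAbelian 2 B → 16 ≤ Nat.card B →
      WW B (DD K) = WW U (DD K) := by
    intro B hBQ hB hB16
    obtain ⟨B', hB'Q, hB', hB'16, hUB', C, hCB, hCB', hC8⟩ := exists_mix hBQ hB hB16 hUQ hUn hU4 hU
    rw [(h.term hBQ hB).W_four hB16 hPK hP2 hP hCB (by omega),
      ← (h.term hB'Q hB').W_four hB'16 hPK hP2 hP hCB' (by omega),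
      (h.term hB'Q hB').W_four hB'16 hPK hP2 hP hUB' hU4.ge]
  rw [key hAQ hA hA16, key hAQ' hA' hA16']

/-- `W` is normalised by every `g` normalising `Q` and permuting the `N a`. -/
theorem mem_norm {A : Subgroup G} (hAQ : A ≤ Q) (hA : IsElementaryAbelian 2 A) (hA16 : 16 ≤ Nat.card A)
    {g : G} (hg : g ∈ normalizer (Q : Set G))
    (hgN : ∀ a ∈ Q, orderOf a = 2 → N (g * a * g⁻¹) = cj g (N a)) :
    g ∈ normalizer (WW A (DD K) : Set G) := by
  have h2 : Fact (Nat.Prime 2) := ⟨Nat.prime_two⟩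
  have hA'Q : cj g A ≤ Q := by
    rintro _ ⟨a, ha, rfl⟩
    exact (mem_normalizer_iff.1 hg a).1 (hAQ ha)
  have hA' : IsElementaryAbelian 2 (cj g A) := by
    refine ⟨⟨⟨?_⟩⟩, ?_⟩
    · rintro ⟨_, a, ha, rfl⟩ ⟨_, b, hb, rfl⟩
      apply Subtype.ext
      show (MulAut.conj g) a * (MulAut.conj g) b = (MulAut.conj g) b * (MulAut.conj g) a
      rw [← map_mul, ← map_mul, CoprimeGen.comm_of_isElementaryAbelian hA a ha b hb]
    · rintro _ ⟨a, ha, rfl⟩
      rw [← map_pow, hA.2 a ha, map_one]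
  have hA'16 : 16 ≤ Nat.card ↥(cj g A) := by
    rw [cj_def, Subgroup.card_map_of_injective (MulAut.conj g).injective]
    exact hA16
  have ho : ∀ a ∈ A, a ≠ 1 → orderOf a = 2 := fun a ha ha1 => orderOf_eq_prime (hA.2 a ha) ha1
  have hW := h.W_eq hPK hP2 hP hA'Q hA' hA'16 hAQ hA hA16
  have hle : WW A (DD K) ≤ (WW (cj g A) (DD K)).comap (MulAut.conj g).toMonoidHom := by
    refine iSup_le fun a x hx => ?_
    have ha' : g * (a : G) * g⁻¹ ∈ cj g A := conj_mem_cj a.2.1
    have hne : g * (a : G) * g⁻¹ ≠ 1 := by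
      intro h1
      apply a.2.2
      have : (a : G) = g⁻¹ * (g * a * g⁻¹) * g := by group
      rw [this, h1]; group
    refine D_le_WW ha' hne ?_
    show g * x * g⁻¹ ∈ DD K (g * a * g⁻¹)
    rw [(h.term hAQ hA).DD_eq a.2.1 a.2.2] at hx
    rw [(h.term hA'Q hA').DD_eq ha' hne, hgN a (hAQ a.2.1) (ho a a.2.1 a.2.2), ← cj_centralizer, core_cj]
    have h3 : ⁅core (centralizer ({(a : G)} : Set G)), N a⁆ ≤
        (⁅cj g (core (centralizer ({(a : G)} : Set G))), cj g (N a)⁆ : Subgroup G).comap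
          (MulAut.conj g).toMonoidHom := by
      rw [commutator_le]
      intro c hc y hy
      show g * ⁅c, y⁆ * g⁻¹ ∈ ⁅cj g (core (centralizer ({(a : G)} : Set G))), cj g (N a)⁆
      have h4 : g * ⁅c, y⁆ * g⁻¹ = ⁅g * c * g⁻¹, g * y * g⁻¹⁆ := by
        simp only [commutatorElement_def]; group
      rw [h4]
      exact commutator_mem_commutator (conj_mem_cj hc) (conj_mem_cj hy)
    exact h3 hx
  rw [hW, ← Subgroup.map_le_iff_le_comap] at hle
  rw [mem_normalizer_iff_cj]
  apply Subgroup.eq_of_le_of_card_ge hle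
  rw [Subgroup.card_map_of_injective (MulAut.conj g).injective]

/-- `N(Q) ∩ N(K) ≤ N(W)` -/
theorem mem_norm' {A : Subgroup G} (hAQ : A ≤ Q) (hA : IsElementaryAbelian 2 A) (hA16 : 16 ≤ Nat.card A)
    {g : G} (hg : g ∈ normalizer (Q : Set G)) (hgK : g ∈ normalizer (K : Set G)) :
    g ∈ normalizer (WW A (DD K) : Set G) := by
  refine h.mem_norm hPK hP2 hP hAQ hA hA16 hg fun a ha ha2 => ?_
  have ha' : g * a * g⁻¹ ∈ Q := (mem_normalizer_iff.1 hg a).1 ha
  have ho : orderOf (g * a * g⁻¹) = 2 := by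
    have h1 := (MulAut.conj g).orderOf_eq a
    rw [ha2] at h1
    exact h1
  have h1 : IsComp (centralizer ({g * a * g⁻¹} : Set G)) (cj g (N a)) := by
    rw [← cj_centralizer]
    exact (h.isComp a ha ha2).cj g
  refine h.comp.unique (h.isComp _ ha' ho) h1 (h.le _ ha' ho) ?_
  rw [mem_normalizer_iff_cj] at hgK
  conv_lhs => rw [← hgK]
  exact Subgroup.map_mono (h.le a ha ha2)

end TermQ

end Cfsg.Agent.UGT.RelK.Canon
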