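import Cfsg.Agent.UGT.RelK.Gen
import Cfsg.Agent.SignalizersComponents.SolvableFunctor
import Cfsg.Agent.SignalizersComponents.CoprimeBasic

set_option autoImplicit false
set_option linter.unusedSectionVars false

/-!
# Theorem REL-K (bb #8932)

`A` an elementary abelian `p`-subgroup of rank at least 4, `K` a perfect subgroup commuting with `A`, `P` a
`p`-subgroup of `K`, and for `1 ≠ a ∈ A` a solvable `p'`-subgroup `D a = ⁅D a, K⁆` of `C(a)`, invariant under `K`
and under `C(a) ∩ C(P)`, with `⁅D a ∩ C(b), K⁆ ≤ D b`. Then the `D a` generate a solvable `p'`-group `W`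
(`Data.cop`, `Data.solv_W`). If `K` is generated by the conjugates of `P` in `K`, then
`⁅C_W(b), K⁆ = D b` (`Data.commutator_eq`) and `W = ⟨D b : 1 ≠ b ∈ B⟩` for every noncyclic `B ≤ A`
(`Data.W_eq`).
-/

namespace Cfsg.Agent.UGT.RelK.Functor

open Subgroup
open scoped commutatorElement
open Cfsg.Agent.Lib.CoprimeCommutator Cfsg.Agent.SignalizersComponents
open Cfsg.Agent.SignalizersComponents.GoldschmidtGen (le_normalizer_of_conj_mem
  conj_mem_of_le_normalizer le_normalizer_sup le_normalizer_commutator le_normalizer_inf_centralizer)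
open Cfsg.Agent.UGT.RelK.Gen (mem_cent_singleton cent_le_cent_singleton)

universe u v

/-! ### Products of subgroups normalising each other -/

section prod

variable {p : ℕ} [hp : Fact p.Prime] {G : Type u} [Group G] [Finite G] {ι : Type v}
  {N : ι → Subgroup G}

theorem sup_aux [DecidableEq ι] (hn : ∀ i j, N i ≤ normalizer (N j : Set G))
    (hN : ∀ i, ¬ p ∣ Nat.card (N i)) (hs : ∀ i, Group.IsSolvable (N i)) {P : Subgroup G}
    (hP : IsPGroup p P) (hPN : ∀ i, P ≤ normalizer (N i : Set G)) (s : Finset ι) :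
    ¬ p ∣ Nat.card ↥(s.sup N) ∧ Group.IsSolvable ↥(s.sup N) ∧ P ≤ normalizer ((s.sup N : Subgroup G) : Set G) ∧
      s.sup N ⊓ centralizer (P : Set G) ≤ s.sup fun i => N i ⊓ centralizer (P : Set G) := by
  induction s using Finset.induction_on with
  | empty =>
    rw [Finset.sup_empty]
    refine ⟨?_, inferInstance, ?_, ?_⟩
    · rw [Subgroup.card_bot]
      exact hp.out.one_lt.ne' ∘ Nat.dvd_one.1
    · exact le_normalizer_of_conj_mem fun a _ x hx => by
        rw [mem_bot] at hx ⊢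
        rw [hx]; group
    · exact inf_le_left.trans bot_le
  | insert i s hi ih =>
    obtain ⟨h1, h2, h3, h4⟩ := ih
    have hn' : s.sup N ≤ normalizer (N i : Set G) := Finset.sup_le fun j _ => hn j i
    rw [Finset.sup_insert, Finset.sup_insert]
    refine ⟨fun hd => ?_, CoprimeBasic.isSolvable_sup hn' (hs i) h2, ?_, ?_⟩
    · rcases (hp.out.dvd_mul).1 (hd.trans (CoprimeBasic.card_sup_dvd hn')) with h | h
      · exact hN i h
      · exact h1 h
    · exact le_normalizer_sup (hPN i) h3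
    · rintro g ⟨hg, hgP⟩
      obtain ⟨x, hx, y, hy, hxP, hyP, rfl⟩ := CoprimeBasic.exists_factorization_of_centralizing hn' P hP
        (fun a ha x hx => conj_mem_of_le_normalizer (hPN i) ha hx)
        (fun a ha x hx => conj_mem_of_le_normalizer h3 ha hx)
        (fun hd => hN i (hd.trans (card_dvd_of_le inf_le_left))) g hg
        (fun a ha => mem_centralizer_iff.1 hgP a ha)
      exact mul_mem (mem_sup_left ⟨hx, mem_centralizer_iff.2 hxP⟩)
        (mem_sup_right (h4 ⟨hy, mem_centralizer_iff.2 hyP⟩))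

theorem iSup_aux [Finite ι] (hn : ∀ i j, N i ≤ normalizer (N j : Set G))
    (hN : ∀ i, ¬ p ∣ Nat.card (N i)) (hs : ∀ i, Group.IsSolvable (N i)) {P : Subgroup G}
    (hP : IsPGroup p P) (hPN : ∀ i, P ≤ normalizer (N i : Set G)) :
    ¬ p ∣ Nat.card ↥(⨆ i, N i) ∧ Group.IsSolvable ↥(⨆ i, N i) ∧
      (⨆ i, N i) ⊓ centralizer (P : Set G) ≤ ⨆ i, N i ⊓ centralizer (P : Set G) := by
  classical
  have : Fintype ι := Fintype.ofFinite ι
  have h := sup_aux hn hN hs hP hPN Finset.univ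
  rw [Finset.sup_univ_eq_iSup, Finset.sup_univ_eq_iSup] at h
  exact ⟨h.1, h.2.1, h.2.2.2⟩

theorem le_normalizer_iSup {P : Subgroup G} (hPN : ∀ i, P ≤ normalizer (N i : Set G)) :
    P ≤ normalizer ((⨆ i, N i : Subgroup G) : Set G) := by
  apply le_normalizer_of_conj_mem
  intro q hq
  have h1 : (⨆ i, N i) ≤ (⨆ i, N i : Subgroup G).comap (MulAut.conj q).toMonoidHom :=
    iSup_le fun i x hx => le_iSup N i (conj_mem_of_le_normalizer (hPN i) hq hx)
  exact fun x hx => h1 hx

end prod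

/-! ### Elementary abelian groups -/

section elemAb

variable {p : ℕ} [hp : Fact p.Prime] {G : Type u} [Group G] [Finite G] {A : Subgroup G}

theorem card_zpowers (hA : Cfsg.IsElementaryAbelian p A) {a : G} (ha : a ∈ A) (ha1 : a ≠ 1) :
    Nat.card (zpowers a) = p := by
  rw [Nat.card_zpowers, orderOf_eq_prime (hA.2 a ha) ha1]

theorem zpowers_eq (hA : Cfsg.IsElementaryAbelian p A) {a c : G} (ha : a ∈ A) (ha1 : a ≠ 1)
    (hc : c ∈ zpowers a) (hc1 : c ≠ 1) : zpowers c = zpowers a := by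
  have hcA : c ∈ A := (zpowers_le.2 ha) hc
  exact Subgroup.eq_of_le_of_card_ge (by rwa [zpowers_le])
    (by rw [card_zpowers hA ha ha1, card_zpowers hA hcA hc1])

theorem card_le_sup (hA : Cfsg.IsElementaryAbelian p A) {a b : G} (ha : a ∈ A) (ha1 : a ≠ 1) (hb : b ∈ A)
    (hb1 : b ∉ zpowers a) : p ^ 2 ≤ Nat.card ↥(zpowers a ⊔ zpowers b) := by
  have haA : zpowers a ≤ A := by rwa [zpowers_le]
  have hbA : zpowers b ≤ A := by rwa [zpowers_le]
  have hb1' : b ≠ 1 := fun h => hb1 (h ▸ one_mem _)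
  -- the order is a power of `p` and at least `p + 1`
  have hP : IsPGroup p ↥(zpowers a ⊔ zpowers b) :=
    (CoprimeGen.isPGroup_of_isElementaryAbelian hA).to_le (sup_le haA hbA)
  obtain ⟨k, hk⟩ := hP.exists_card_eq
  have h1 : p < Nat.card ↥(zpowers a ⊔ zpowers b) := by
    rw [← card_zpowers hA ha ha1]
    refine lt_of_le_of_ne (Nat.card_le_card_of_injective _ (inclusion_injective le_sup_left)) fun h => ?_
    have h2 : zpowers a = zpowers a ⊔ zpowers b := Subgroup.eq_of_le_of_card_ge le_sup_left h.ge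
    apply hb1
    rw [h2]
    exact mem_sup_right (mem_zpowers b)
  rw [hk] at h1 ⊢
  apply Nat.pow_le_pow_right hp.out.pos
  by_contra hcon
  have h2 : p ^ k ≤ p ^ 1 := Nat.pow_le_pow_right hp.out.pos (by omega)
  rw [pow_one] at h2
  omega

/-- Complements of subgroups of order `p`. -/
theorem exists_complement (hA : Cfsg.IsElementaryAbelian p A) {a : G} (ha : a ∈ A) (ha1 : a ≠ 1) :
    ∃ B ≤ A, Nat.card A = p * Nat.card B ∧ a ∉ B ∧ zpowers a ⊔ B = A := by
  have hcomm := CoprimeGen.comm_of_isElementaryAbelian hA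
  have hnorm : ∀ {X Y : Subgroup G}, X ≤ A → Y ≤ A → Y ≤ normalizer (X : Set G) := by
    intro X Y hX hY
    apply le_normalizer_of_conj_mem
    intro y hy x hx
    rw [hcomm y (hY hy) x (hX hx)]
    simpa using hx
  obtain ⟨B, ⟨hBA, haB⟩, hBmax⟩ := (Set.toFinite {B : Subgroup G | B ≤ A ∧ a ∉ B}).exists_maximal
    ⟨⊥, bot_le, by rwa [mem_bot]⟩
  have haA : zpowers a ≤ A := by rwa [zpowers_le]
  have hBa : zpowers a ⊓ B = ⊥ := by
    rw [eq_bot_iff]
    rintro x ⟨hxa, hxB⟩
    by_contra hx1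
    rw [mem_bot] at hx1
    apply haB
    have := zpowers_eq hA ha ha1 hxa hx1
    have h2 : a ∈ zpowers x := by rw [this]; exact mem_zpowers a
    exact (zpowers_le.2 hxB) h2
  have hsup : zpowers a ⊔ B = A := by
    apply le_antisymm (sup_le haA hBA)
    intro x hx
    by_contra hxB
    have hxA : zpowers x ≤ A := by rwa [zpowers_le]
    have h1 : a ∈ B ⊔ zpowers x := by
      by_contra h
      have h2 := hBmax (⟨sup_le hBA hxA, h⟩ : B ⊔ zpowers x ∈ {B : Subgroup G | B ≤ A ∧ a ∉ B}) le_sup_left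
      exact hxB (mem_sup_right (h2 (mem_sup_right (mem_zpowers x))))
    obtain ⟨b, hb, z, hz, hbz⟩ := (CoprimeBasic.mem_sup_iff (hnorm hBA hxA) a).mp h1
    have hx1 : x ≠ 1 := by
      rintro rfl
      exact hxB (one_mem _)
    have hz2 : z ≠ 1 := by
      rintro rfl
      rw [mul_one] at hbz
      exact haB (hbz ▸ hb)
    have h4 : zpowers z = zpowers x := zpowers_eq hA hx hx1 hz hz2
    apply hxB
    have h5 : zpowers x ≤ zpowers a ⊔ B := by
      rw [← h4, zpowers_le]
      have h3 : z = b⁻¹ * a := by rw [← hbz]; group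
      rw [h3]
      exact mul_mem (mem_sup_right (inv_mem hb)) (mem_sup_left (mem_zpowers a))
    exact h5 (mem_zpowers x)
  refine ⟨B, hBA, ?_, haB, hsup⟩
  have hc := Subgroup.card_mul_index (B.subgroupOf A)
  -- count `⟨a⟩ B`
  have h1 : Nat.card A ∣ p * Nat.card B := by
    have := CoprimeBasic.card_sup_dvd (X := zpowers a) (Y := B) (hnorm haA hBA)
    rwa [hsup, card_zpowers hA ha ha1] at this
  have h2 : B ≠ A := fun h => haB (h ▸ ha)
  have h3 : Nat.card B ∣ Nat.card A := card_dvd_of_le hBA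
  obtain ⟨m, hm⟩ := h3
  have hBpos : 0 < Nat.card B := Nat.card_pos
  rw [hm, mul_comm p] at h1
  have h4 : m ∣ p := Nat.dvd_of_mul_dvd_mul_left hBpos h1
  rcases (Nat.dvd_prime hp.out).1 h4 with rfl | rfl
  · exfalso
    apply h2
    exact Subgroup.eq_of_le_of_card_ge hBA (by rw [hm, mul_one])
  · rw [hm, mul_comm]

end elemAb

/-! ### The data -/

/-- The hypotheses of Theorem REL-K. -/
structure Data (p : ℕ) {G : Type u} [Group G] (A K P : Subgroup G) (D : G → Subgroup G) : Prop where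
  el : Cfsg.IsElementaryAbelian p A
  card : p ^ 4 ≤ Nat.card A
  perf : K ≤ ⁅K, K⁆
  comm : ∀ k ∈ K, ∀ a ∈ A, k * a = a * k
  PK : P ≤ K
  pP : IsPGroup p P
  cent : ∀ a ∈ A, a ≠ 1 → D a ≤ centralizer {a}
  solv : ∀ a ∈ A, a ≠ 1 → Group.IsSolvable (D a)
  cop : ∀ a ∈ A, a ≠ 1 → ¬ p ∣ Nat.card (D a)
  normK : ∀ a ∈ A, a ≠ 1 → K ≤ normalizer (D a : Set G)
  full : ∀ a ∈ A, a ≠ 1 → D a ≤ ⁅D a, K⁆
  bal : ∀ a ∈ A, a ≠ 1 → ∀ b ∈ A, b ≠ 1 → ⁅D a ⊓ centralizer {b}, K⁆ ≤ D b
  norm : ∀ a ∈ A, a ≠ 1 → centralizer {a} ⊓ centralizer (P : Set G) ≤ normalizer (D a : Set G)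

section defs

variable {G : Type u} [Group G]

/-- `C_{D e}(P B)` -/
def NN (P : Subgroup G) (D : G → Subgroup G) (B : Subgroup G) (e : G) : Subgroup G :=
  D e ⊓ centralizer (P : Set G) ⊓ centralizer (B : Set G)

/-- `⟨C_{D e}(P B) : 1 ≠ e ∈ B⟩` -/
def VV (P : Subgroup G) (D : G → Subgroup G) (B : Subgroup G) : Subgroup G :=
  ⨆ e : {e : G // e ∈ B ∧ e ≠ 1}, NN P D B e

/-- `⟨VV(⟨a, b⟩) : b ∈ A - ⟨a⟩⟩` -/
def PP (A P : Subgroup G) (D : G → Subgroup G) (a : G) : Subgroup G :=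
  ⨆ b : {b : G // b ∈ A ∧ b ∉ zpowers a}, VV P D (zpowers a ⊔ zpowers (b : G))

/-- the second functor -/
def TH (A P : Subgroup G) (D : G → Subgroup G) (a : G) : Subgroup G := D a ⊔ PP A P D a

/-- the group generated by the `D a` -/
def WW (A : Subgroup G) (D : G → Subgroup G) : Subgroup G := ⨆ a : {a : G // a ∈ A ∧ a ≠ 1}, D a

theorem NN_le_VV {P : Subgroup G} {D : G → Subgroup G} {B : Subgroup G} {e : G} (he : e ∈ B)
    (he1 : e ≠ 1) : NN P D B e ≤ VV P D B :=
  le_iSup (fun e : {e : G // e ∈ B ∧ e ≠ 1} => NN P D B e) ⟨e, he, he1⟩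

theorem VV_le_PP {A P : Subgroup G} {D : G → Subgroup G} {a b : G} (hb : b ∈ A) (hb1 : b ∉ zpowers a) :
    VV P D (zpowers a ⊔ zpowers b) ≤ PP A P D a :=
  le_iSup (fun b : {b : G // b ∈ A ∧ b ∉ zpowers a} => VV P D (zpowers a ⊔ zpowers (b : G))) ⟨b, hb, hb1⟩

theorem D_le_WW {A : Subgroup G} {D : G → Subgroup G} {a : G} (ha : a ∈ A) (ha1 : a ≠ 1) :
    D a ≤ WW A D :=
  le_iSup (fun a : {a : G // a ∈ A ∧ a ≠ 1} => D a) ⟨a, ha, ha1⟩

theorem VV_le (P : Subgroup G) (D : G → Subgroup G) (B : Subgroup G) :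
    VV P D B ≤ centralizer (P : Set G) ⊓ centralizer (B : Set G) :=
  iSup_le fun _ => le_inf (inf_le_left.trans inf_le_right) inf_le_right

theorem PP_le (A P : Subgroup G) (D : G → Subgroup G) (a : G) :
    PP A P D a ≤ centralizer {a} ⊓ centralizer (P : Set G) := by
  refine iSup_le fun b => (VV_le P D _).trans (le_inf (inf_le_right.trans ?_) inf_le_left)
  exact cent_le_cent_singleton (mem_sup_left (mem_zpowers a))

theorem mem_cent_sup {a b x : G} (ha : x ∈ centralizer ({a} : Set G))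
    (hb : x ∈ centralizer ({b} : Set G)) :
    x ∈ centralizer ((zpowers a ⊔ zpowers b : Subgroup G) : Set G) := by
  have h1 : zpowers a ⊔ zpowers b ≤ centralizer ({x} : Set G) := by
    rw [sup_le_iff, zpowers_le, zpowers_le]
    exact ⟨mem_cent_singleton.2 (mem_cent_singleton.1 ha).symm,
      mem_cent_singleton.2 (mem_cent_singleton.1 hb).symm⟩
  exact mem_centralizer_iff.2 fun y hy => (mem_cent_singleton.1 (h1 hy)).symm

end defs

namespace Data

variable {p : ℕ} [hp : Fact p.Prime] {G : Type u} [Group G] [Finite G] {A K P : Subgroup G}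
  {D : G → Subgroup G} (h : Data p A K P D)

include h

theorem commA : ∀ a ∈ A, ∀ b ∈ A, a * b = b * a := CoprimeGen.comm_of_isElementaryAbelian h.el

theorem A_le_cent {B : Subgroup G} (hB : B ≤ A) : A ≤ centralizer (B : Set G) := fun a ha =>
  mem_centralizer_iff.2 fun b hb => h.commA b (hB hb) a ha

theorem K_le_cent {B : Subgroup G} (hB : B ≤ A) : K ≤ centralizer (B : Set G) := fun k hk =>
  mem_centralizer_iff.2 fun b hb => (h.comm k hk b (hB hb)).symm

theorem A_le_centP : A ≤ centralizer (P : Set G) := fun a ha =>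
  mem_centralizer_iff.2 fun x hx => h.comm x (h.PK hx) a ha

theorem normA {a : G} (ha : a ∈ A) (ha1 : a ≠ 1) : A ≤ normalizer (D a : Set G) :=
  le_trans (le_inf ((h.A_le_cent (le_refl A)).trans (cent_le_cent_singleton ha)) h.A_le_centP)
    (h.norm a ha ha1)

theorem norm_NN {B : Subgroup G} (hB : B ≤ A) {e : G} (he : e ∈ B) (he1 : e ≠ 1) :
    centralizer (P : Set G) ⊓ centralizer (B : Set G) ≤ normalizer (NN P D B e : Set G) := by
  apply le_normalizer_of_conj_mem
  rintro g ⟨hgP, hgB⟩ x ⟨⟨hxD, hxP⟩, hxB⟩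
  have hg : g ∈ normalizer (D e : Set G) :=
    h.norm e (hB he) he1 ⟨cent_le_cent_singleton he hgB, hgP⟩
  exact ⟨⟨(mem_normalizer_iff.1 hg x).1 hxD, (centralizer (P : Set G)).mul_mem ((centralizer (P : Set G)).mul_mem hgP hxP)
      ((centralizer (P : Set G)).inv_mem hgP)⟩,
    (centralizer (B : Set G)).mul_mem ((centralizer (B : Set G)).mul_mem hgB hxB)
      ((centralizer (B : Set G)).inv_mem hgB)⟩

omit h hp [Finite G] in
theorem NN_le (B : Subgroup G) (e : G) :
    NN P D B e ≤ centralizer (P : Set G) ⊓ centralizer (B : Set G) :=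
  le_inf (inf_le_left.trans inf_le_right) inf_le_right

theorem norm_VV {B : Subgroup G} (hB : B ≤ A) :
    centralizer (P : Set G) ⊓ centralizer (B : Set G) ≤ normalizer (VV P D B : Set G) :=
  le_normalizer_iSup fun e => h.norm_NN hB e.2.1 e.2.2

theorem VV_aux {B : Subgroup G} (hB : B ≤ A) {Q : Subgroup G} (hQ : IsPGroup p Q)
    (hQN : Q ≤ centralizer (P : Set G) ⊓ centralizer (B : Set G)) :
    ¬ p ∣ Nat.card ↥(VV P D B) ∧ Group.IsSolvable ↥(VV P D B) ∧
      VV P D B ⊓ centralizer (Q : Set G) ≤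
        ⨆ e : {e : G // e ∈ B ∧ e ≠ 1}, NN P D B e ⊓ centralizer (Q : Set G) := by
  refine iSup_aux (N := fun e : {e : G // e ∈ B ∧ e ≠ 1} => NN P D B e) ?_ ?_ ?_ hQ ?_
  · exact fun i j => (NN_le B _).trans (h.norm_NN hB j.2.1 j.2.2)
  · intro e hd
    exact h.cop e (hB e.2.1) e.2.2 (hd.trans (card_dvd_of_le (inf_le_left.trans inf_le_left)))
  · intro e
    have := h.solv e (hB e.2.1) e.2.2
    have hle : NN P D B e ≤ D e := inf_le_left.trans inf_le_left
    exact Group.isSolvable_of_isSolvable_injective (f := inclusion hle) (inclusion_injective hle)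
  · exact fun e => hQN.trans (h.norm_NN hB e.2.1 e.2.2)

/-- (1) -/
theorem NN_le_VV' {B : Subgroup G} (hB : B ≤ A) (hB2 : p ^ 2 ≤ Nat.card B) {b : G} (hb : b ∈ A)
    (hb1 : b ≠ 1) : NN P D B b ≤ VV P D B := by
  have hBe := CoprimeGen.isElementaryAbelian_mono h.el hB
  have hgen := Gen.inf_centralizer_le (p := p) (Y := D b) (Q := K) (B := B) h.perf hBe hB2
    (fun q hq c hc => h.comm q hq c (hB hc)) (h.solv b hb hb1) (h.cop b hb hb1) (h.normK b hb hb1)
    (hB.trans (h.normA hb hb1)) (h.full b hb hb1)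
  obtain ⟨M, hM⟩ : ∃ M : {c : G // c ∈ B ∧ c ≠ 1} → Subgroup G, ∀ e, M e =
    centralizer (B : Set G) ⊓ ⁅D b ⊓ centralizer {(e : G)}, K⁆ := ⟨_, fun _ => rfl⟩
  have hMD : ∀ e, M e ≤ D b := by
    intro e
    rw [hM]
    exact inf_le_right.trans ((commutator_mono inf_le_left le_rfl).trans
      (commutator_le_left (h.normK b hb hb1)))
  have hnorm : ∀ e, D b ⊓ centralizer (B : Set G) ≤ normalizer (M e : Set G) := by
    intro e
    apply le_normalizer_of_conj_mem
    rintro g ⟨hg, hgB⟩ x hx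
    rw [hM] at hx ⊢
    refine ⟨(centralizer (B : Set G)).mul_mem ((centralizer (B : Set G)).mul_mem hgB hx.1)
      ((centralizer (B : Set G)).inv_mem hgB), ?_⟩
    exact conj_mem_of_le_normalizer (left_le_normalizer_commutator (D b ⊓ centralizer {(e : G)}) K)
      ⟨hg, cent_le_cent_singleton e.2.1 hgB⟩ hx.2
  have hPM : ∀ e, P ≤ normalizer (M e : Set G) := by
    intro e
    apply le_normalizer_of_conj_mem
    rintro g hg x hx
    rw [hM] at hx ⊢
    have hgB : g ∈ centralizer (B : Set G) := h.K_le_cent hB (h.PK hg)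
    refine ⟨(centralizer (B : Set G)).mul_mem ((centralizer (B : Set G)).mul_mem hgB hx.1)
      ((centralizer (B : Set G)).inv_mem hgB), ?_⟩
    exact conj_mem_of_le_normalizer (right_le_normalizer_commutator (D b ⊓ centralizer {(e : G)}) K)
      (h.PK hg) hx.2
  obtain ⟨-, -, h3⟩ := iSup_aux (p := p) (N := M) (P := P)
    (fun i j => (le_inf (hMD i) (by rw [hM]; exact inf_le_left)).trans (hnorm j))
    (fun i hd => h.cop b hb hb1 (hd.trans (card_dvd_of_le (hMD i))))
    (fun i => by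
      have := h.solv b hb hb1
      exact Group.isSolvable_of_isSolvable_injective (f := inclusion (hMD i)) (inclusion_injective (hMD i)))
    h.pP hPM
  rintro x ⟨⟨hxD, hxP⟩, hxB⟩
  have hx1 : x ∈ ⨆ e, M e := by
    have := hgen ⟨hxD, hxB⟩
    rw [iSup_congr hM]
    exact this
  refine (h3.trans (iSup_le fun e => ?_)) ⟨hx1, hxP⟩
  refine le_trans ?_ (NN_le_VV e.2.1 e.2.2)
  rintro y ⟨hy, hyP⟩
  rw [hM] at hy
  exact ⟨⟨h.bal b hb hb1 e (hB e.2.1) e.2.2 hy.2, hyP⟩, hy.1⟩

theorem norm_PP (a : G) (ha : a ∈ A) : A ≤ normalizer (PP A P D a : Set G) := by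
  refine le_normalizer_iSup fun b => ?_
  have hB : zpowers a ⊔ zpowers (b : G) ≤ A :=
    sup_le (by rwa [zpowers_le]) (by rw [zpowers_le]; exact b.2.1)
  exact (le_inf h.A_le_centP (h.A_le_cent hB)).trans (h.norm_VV hB)

/-- (2) -/
theorem PP_props {a : G} (ha : a ∈ A) (ha1 : a ≠ 1) :
    Group.IsSolvable ↥(PP A P D a) ∧ ¬ p ∣ Nat.card ↥(PP A P D a) ∧
    (∀ b ∈ A, b ∉ zpowers a → PP A P D a ⊓ centralizer {b} ≤ VV P D (zpowers a ⊔ zpowers b)) ∧
    D a ⊓ centralizer (P : Set G) ≤ PP A P D a := by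
  have haA : zpowers a ≤ A := by rwa [zpowers_le]
  obtain ⟨B, hBA, hcard, haB, hsup⟩ := exists_complement h.el ha ha1
  have hBe := CoprimeGen.isElementaryAbelian_mono h.el hBA
  have hB3 : p ^ 3 ≤ Nat.card B := by
    have h1 := h.card
    rw [hcard, pow_succ, mul_comm] at h1
    exact Nat.le_of_mul_le_mul_left h1 hp.out.pos
  have hab : ∀ b ∈ A, zpowers a ⊔ zpowers b ≤ A := fun b hb => sup_le haA (by rwa [zpowers_le])
  have hBn : ∀ b ∈ B, b ≠ 1 → b ∉ zpowers a := by
    intro b hb hb1 hba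
    apply haB
    have h2 : a ∈ zpowers b := by rw [zpowers_eq h.el ha ha1 hba hb1]; exact mem_zpowers a
    exact (zpowers_le.2 hb) h2
  obtain ⟨θ, hθ⟩ : ∃ θ : G → Subgroup G, ∀ b, θ b = VV P D (zpowers a ⊔ zpowers b) := ⟨_, fun _ => rfl⟩
  have hfun : Cfsg.IsSolvableSignalizerFunctor p B θ := by
    refine ⟨⟨?_, ?_, ?_, ?_⟩, ?_⟩
    · intro b hb hb1
      rw [hθ]
      exact ((VV_le P D _).trans inf_le_right).trans
        (cent_le_cent_singleton (mem_sup_right (mem_zpowers b)))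
    · intro b hb hb1
      rw [hθ]
      exact (h.VV_aux (hab b (hBA hb)) (Q := ⊥) (IsPGroup.of_bot) bot_le).1
    · intro b hb hb1 c hc x hx
      rw [hθ] at hx ⊢
      exact conj_mem_of_le_normalizer (h.norm_VV (hab b (hBA hb)))
        ⟨h.A_le_centP (hBA hc), h.A_le_cent (hab b (hBA hb)) (hBA hc)⟩ hx
    · intro b hb hb1 c hc hc1
      rw [hθ, hθ]
      have hcP : IsPGroup p (zpowers c) :=
        (CoprimeGen.isPGroup_of_isElementaryAbelian h.el).to_le (by rw [zpowers_le]; exact hBA hc)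
      have hcle : zpowers c ≤ centralizer (P : Set G) ⊓
          centralizer ((zpowers a ⊔ zpowers b : Subgroup G) : Set G) := by
        rw [zpowers_le]
        exact ⟨h.A_le_centP (hBA hc), h.A_le_cent (hab b (hBA hb)) (hBA hc)⟩
      have h1 := (h.VV_aux (hab b (hBA hb)) hcP hcle).2.2
      rw [CoprimeGen.centralizer_zpowers] at h1
      refine h1.trans (iSup_le fun e => ?_)
      refine le_trans ?_ (h.NN_le_VV' (hab c (hBA hc)) (card_le_sup h.el ha ha1 (hBA hc) (hBn c hc hc1))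
        (hab b (hBA hb) e.2.1) e.2.2)
      rintro x ⟨⟨hx1, hx2⟩, hxc⟩
      exact ⟨hx1, mem_cent_sup (cent_le_cent_singleton (mem_sup_left (mem_zpowers a)) hx2) hxc⟩
    · intro b hb hb1
      rw [hθ]
      exact (h.VV_aux (hab b (hBA hb)) (Q := ⊥) (IsPGroup.of_bot) bot_le).2.1
  obtain ⟨hmem, hcl⟩ := SolvableFunctor.closure_mem hBe hB3 hfun
  -- decomposition
  have hdec : ∀ b ∈ A, b ∉ zpowers a → ∃ z ∈ zpowers a, ∃ b₀ ∈ B, b₀ ≠ 1 ∧ z * b₀ = b ∧
      zpowers a ⊔ zpowers b = zpowers a ⊔ zpowers b₀ := by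
    intro b hb hb1
    have hn : B ≤ normalizer (zpowers a : Set G) := by
      apply le_normalizer_of_conj_mem
      intro c hc x hx
      rw [h.commA c (hBA hc) x (haA hx), mul_inv_cancel_right]
      exact hx
    obtain ⟨z, hz, b₀, hb₀, hzb⟩ := (CoprimeBasic.mem_sup_iff hn b).1 (by rw [hsup]; exact hb)
    refine ⟨z, hz, b₀, hb₀, ?_, hzb, ?_⟩
    · rintro rfl
      rw [mul_one] at hzb
      exact hb1 (hzb ▸ hz)
    · apply le_antisymm
      · refine sup_le le_sup_left ?_
        rw [zpowers_le, ← hzb]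
        exact mul_mem (mem_sup_left hz) (mem_sup_right (mem_zpowers b₀))
      · refine sup_le le_sup_left ?_
        have : b₀ = z⁻¹ * b := by rw [← hzb]; group
        rw [zpowers_le, this]
        exact mul_mem (mem_sup_left (inv_mem hz)) (mem_sup_right (mem_zpowers b))
  have hPP : PP A P D a = ⨆ b : {b : G // b ∈ B ∧ b ≠ 1}, θ (b : G) := by
    apply le_antisymm
    · refine iSup_le fun b => ?_
      obtain ⟨z, hz, b₀, hb₀, hb₁, -, heq⟩ := hdec b b.2.1 b.2.2
      rw [heq, ← hθ]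
      exact le_iSup (fun b : {b : G // b ∈ B ∧ b ≠ 1} => θ (b : G)) ⟨b₀, hb₀, hb₁⟩
    · refine iSup_le fun b => ?_
      rw [hθ]
      exact VV_le_PP (hBA b.2.1) (hBn b b.2.1 b.2.2)
  refine ⟨?_, ?_, ?_, ?_⟩
  · rw [hPP]; exact hmem.1
  · rw [hPP]; exact hmem.2.1
  · intro b hb hb1
    obtain ⟨z, hz, b₀, hb₀, hb₁, hzb, heq⟩ := hdec b hb hb1
    rw [heq, ← hθ, ← hcl b₀ hb₀ hb₁, ← hPP]
    rintro x ⟨hx, hxb⟩
    refine ⟨hx, ?_⟩
    have hxa := (PP_le A P D a hx).1
    have hxz : x ∈ centralizer ({z} : Set G) := by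
      rw [← CoprimeGen.centralizer_zpowers] at hxa
      exact cent_le_cent_singleton hz hxa
    have h1 : (zpowers z ⊔ zpowers b : Subgroup G) ≤ centralizer ({x} : Set G) := by
      rw [sup_le_iff, zpowers_le, zpowers_le]
      exact ⟨mem_cent_singleton.2 (mem_cent_singleton.1 hxz).symm,
        mem_cent_singleton.2 (mem_cent_singleton.1 hxb).symm⟩
    have h2 : b₀ ∈ zpowers z ⊔ zpowers b := by
      have : b₀ = z⁻¹ * b := by rw [← hzb]; group
      rw [this]
      exact mul_mem (mem_sup_left (inv_mem (mem_zpowers z))) (mem_sup_right (mem_zpowers b))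
    exact mem_cent_singleton.2 (mem_cent_singleton.1 (h1 h2)).symm
  · have hBN : B ≤ normalizer ((D a ⊓ centralizer (P : Set G) : Subgroup G) : Set G) := by
      apply le_normalizer_of_conj_mem
      rintro c hc x ⟨hx, hxP⟩
      have hcP := h.A_le_centP (hBA hc)
      exact ⟨conj_mem_of_le_normalizer (h.normA ha ha1) (hBA hc) hx,
        (centralizer (P : Set G)).mul_mem ((centralizer (P : Set G)).mul_mem hcP hxP)
          ((centralizer (P : Set G)).inv_mem hcP)⟩
    have hB2 : p ^ 2 ≤ Nat.card B := le_trans (Nat.pow_le_pow_right hp.out.pos (by norm_num)) hB3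
    refine (CoprimeGen.le_iSup_centralizer_ne_one (Z := D a ⊓ centralizer (P : Set G)) hBe hB2
      (fun hd => h.cop a ha ha1 (hd.trans (card_dvd_of_le inf_le_left))) hBN).trans (iSup_le fun b => ?_)
    refine le_trans ?_ (VV_le_PP (hBA b.2.1) (hBn b b.2.1 b.2.2))
    refine le_trans ?_ (NN_le_VV (mem_sup_left (mem_zpowers a)) ha1)
    rintro x ⟨⟨hx, hxP⟩, hxb⟩
    exact ⟨⟨hx, hxP⟩, mem_cent_sup (h.cent a ha ha1 hx) hxb⟩

theorem K_norm_inf {a b : G} (ha : a ∈ A) (ha1 : a ≠ 1) (hb : b ∈ A) :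
    K ≤ normalizer ((D a ⊓ centralizer {b} : Subgroup G) : Set G) := by
  rw [← CoprimeGen.centralizer_zpowers]
  exact le_normalizer_inf_centralizer (h.normK a ha ha1)
    fun q hq c hc => h.comm q hq c ((zpowers_le.2 hb) hc)

/-- (3) -/
theorem TH_functor : Cfsg.IsSolvableSignalizerFunctor p A (TH A P D) := by
  refine ⟨⟨?_, ?_, ?_, ?_⟩, ?_⟩
  · intro a ha ha1
    exact sup_le (h.cent a ha ha1) ((PP_le A P D a).trans inf_le_left)
  · intro a ha ha1 hd
    have hn : PP A P D a ≤ normalizer (D a : Set G) := (PP_le A P D a).trans (h.norm a ha ha1)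
    rcases (hp.out.dvd_mul).1 (hd.trans (CoprimeBasic.card_sup_dvd hn)) with h1 | h1
    · exact h.cop a ha ha1 h1
    · exact (h.PP_props ha ha1).2.1 h1
  · intro a ha ha1 b hb x hx
    exact conj_mem_of_le_normalizer (le_normalizer_sup (h.normA ha ha1) (h.norm_PP a ha)) hb hx
  · intro a ha ha1 c hc hc1
    have hn : PP A P D a ≤ normalizer (D a : Set G) := (PP_le A P D a).trans (h.norm a ha ha1)
    by_cases hca : c ∈ zpowers a
    · have hz := zpowers_eq h.el ha ha1 hca hc1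
      have hcent : centralizer ({a} : Set G) = centralizer {c} := by
        rw [← CoprimeGen.centralizer_zpowers, ← CoprimeGen.centralizer_zpowers c, hz]
      refine inf_le_left.trans (sup_le ?_ ?_)
      · refine le_trans (h.full a ha ha1) (le_trans ?_ ((h.bal a ha ha1 c hc hc1).trans le_sup_left))
        refine commutator_mono (le_inf le_rfl ?_) le_rfl
        rw [← hcent]
        exact h.cent a ha ha1
      · have : PP A P D a = PP A P D c := by
          unfold PP
          rw [hz]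
        rw [this]
        exact le_sup_right
    · have hac : a ∉ zpowers c := by
        intro hac
        apply hca
        rw [zpowers_eq h.el hc hc1 hac ha1]
        exact mem_zpowers c
      have hVc : VV P D (zpowers a ⊔ zpowers c) ≤ PP A P D c := by
        rw [sup_comm]
        exact VV_le_PP ha hac
      have hcP : IsPGroup p (zpowers c) :=
        (CoprimeGen.isPGroup_of_isElementaryAbelian h.el).to_le (by rwa [zpowers_le])
      have hcA : zpowers c ≤ A := by rwa [zpowers_le]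
      rintro x ⟨hx, hxc⟩
      have hxc' : x ∈ centralizer ((zpowers c : Subgroup G) : Set G) := by
        rwa [CoprimeGen.centralizer_zpowers]
      obtain ⟨d, hd, y, hy, hdc, hyc, rfl⟩ := CoprimeBasic.exists_factorization_of_centralizing hn
        (zpowers c) hcP
        (fun z hz w hw => conj_mem_of_le_normalizer (h.normA ha ha1) (hcA hz) hw)
        (fun z hz w hw => conj_mem_of_le_normalizer (h.norm_PP a ha) (hcA hz) hw)
        (fun hd => h.cop a ha ha1 (hd.trans (card_dvd_of_le inf_le_left))) x hx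
        (fun z hz => mem_centralizer_iff.1 hxc' z hz)
      have hdc' : d ∈ centralizer ({c} : Set G) := by
        rw [← CoprimeGen.centralizer_zpowers]; exact mem_centralizer_iff.2 hdc
      have hyc' : y ∈ centralizer ({c} : Set G) := by
        rw [← CoprimeGen.centralizer_zpowers]; exact mem_centralizer_iff.2 hyc
      have hyV : y ∈ PP A P D c := hVc ((h.PP_props ha ha1).2.2.1 c hc hca ⟨hy, hyc'⟩)
      refine mul_mem ?_ (mem_sup_right hyV)
      -- `d ∈ C_{D a}(c)`
      obtain ⟨T, hT⟩ : ∃ T, T = D a ⊓ centralizer ({c} : Set G) := ⟨_, rfl⟩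
      have hdT : d ∈ T := hT ▸ ⟨hd, hdc'⟩
      have hKT : K ≤ normalizer (T : Set G) := hT ▸ h.K_norm_inf ha ha1 hc
      have hTK : ⁅T, K⁆ ≤ T := commutator_le_left hKT
      have hTD : ⁅T, K⁆ ≤ D c := hT ▸ h.bal a ha ha1 c hc hc1
      obtain ⟨e, he, hde⟩ := CoprimeBasic.exists_fixed_in_coset P h.pP ⁅T, K⁆
        (fun hdv => h.cop c hc hc1 (hdv.trans (card_dvd_of_le hTD)))
        (fun q hq w hw => conj_mem_of_le_normalizer (right_le_normalizer_commutator T K) (h.PK hq) hw) d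
        (fun q hq => by
          have h1 : d⁻¹ * (q * d * q⁻¹) = ⁅d⁻¹, q⁆ := by rw [commutatorElement_def]; group
          rw [h1]
          exact commutator_mem_commutator (inv_mem hdT) (h.PK hq))
      have h2 : d * e ∈ T := mul_mem hdT (hTK he)
      rw [hT] at h2
      have h3 : d * e ∈ PP A P D c := by
        refine hVc (NN_le_VV (mem_sup_left (mem_zpowers a)) ha1 ⟨⟨h2.1, mem_centralizer_iff.2 hde⟩, ?_⟩)
        exact mem_cent_sup (h.cent a ha ha1 h2.1) h2.2
      have h4 : d = (d * e) * e⁻¹ := by group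
      rw [h4]
      exact mul_mem (mem_sup_right h3) (mem_sup_left (inv_mem (hTD he)))
  · intro a ha ha1
    have hn : PP A P D a ≤ normalizer (D a : Set G) := (PP_le A P D a).trans (h.norm a ha ha1)
    exact CoprimeBasic.isSolvable_sup hn (h.solv a ha ha1) (h.PP_props ha ha1).1

theorem card3 : p ^ 3 ≤ Nat.card A :=
  le_trans (Nat.pow_le_pow_right hp.out.pos (by norm_num)) h.card

theorem closure : (⨆ a : {a : G // a ∈ A ∧ a ≠ 1}, TH A P D (a : G)) ∈
      Cfsg.signalizerFamily p A (TH A P D) ∧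
    ∀ a ∈ A, a ≠ 1 → (⨆ b : {a : G // a ∈ A ∧ a ≠ 1}, TH A P D (b : G)) ⊓ centralizer {a} =
      TH A P D a :=
  SolvableFunctor.closure_mem h.el h.card3 h.TH_functor

omit h hp [Finite G] in
theorem WW_le : WW A D ≤ ⨆ a : {a : G // a ∈ A ∧ a ≠ 1}, TH A P D (a : G) :=
  iSup_le fun a => le_sup_left.trans (le_iSup (fun a : {a : G // a ∈ A ∧ a ≠ 1} => TH A P D (a : G)) a)

/-- **Theorem REL-K.** -/
theorem cop_W : ¬ p ∣ Nat.card (WW A D) := fun hd =>
  h.closure.1.2.1 (hd.trans (card_dvd_of_le (WW_le (P := P))))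

theorem solv_W : Group.IsSolvable (WW A D) := by
  have := h.closure.1.1
  exact Group.isSolvable_of_isSolvable_injective (f := inclusion (WW_le (P := P)))
    (inclusion_injective (WW_le (P := P)))

theorem inf_cent_le {b : G} (hb : b ∈ A) (hb1 : b ≠ 1) : WW A D ⊓ centralizer {b} ≤ TH A P D b := by
  rw [← h.closure.2 b hb hb1]
  exact inf_le_inf_right _ WW_le

theorem K_norm_W : K ≤ normalizer (WW A D : Set G) :=
  le_normalizer_iSup fun a => h.normK a a.2.1 a.2.2

theorem A_norm_W : A ≤ normalizer (WW A D : Set G) :=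
  le_normalizer_iSup fun a => h.normA a.2.1 a.2.2

theorem full_W : WW A D ≤ ⁅WW A D, K⁆ :=
  iSup_le fun a => (h.full a a.2.1 a.2.2).trans (commutator_mono (D_le_WW a.2.1 a.2.2) le_rfl)

/-- (4) -/
theorem commutator_eq (hPK : ∀ N : Subgroup G, P ≤ N → K ≤ normalizer (N : Set G) → K ≤ N) {b : G}
    (hb : b ∈ A) (hb1 : b ≠ 1) : ⁅WW A D ⊓ centralizer {b}, K⁆ = D b := by
  obtain ⟨T, hT⟩ : ∃ T, T = WW A D ⊓ centralizer ({b} : Set G) := ⟨_, rfl⟩
  rw [← hT]
  have hDT : D b ≤ T := hT ▸ le_inf (D_le_WW hb hb1) (h.cent b hb hb1)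
  have hKD := h.normK b hb hb1
  have hKT : K ≤ normalizer (T : Set G) := by
    rw [hT, ← CoprimeGen.centralizer_zpowers]
    exact le_normalizer_inf_centralizer h.K_norm_W
      fun q hq c hc => h.comm q hq c ((zpowers_le.2 hb) hc)
  apply le_antisymm _ ((h.full b hb hb1).trans (commutator_mono hDT le_rfl))
  obtain ⟨N, hN⟩ : ∃ N : Subgroup G, ∀ k, k ∈ N ↔ k ∈ K ∧ ∀ t ∈ T, ⁅t, k⁆ ∈ D b := by
    refine ⟨{ carrier := {k | k ∈ K ∧ ∀ t ∈ T, ⁅t, k⁆ ∈ D b}
              one_mem' := ⟨one_mem _, fun t _ => by simp⟩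
              mul_mem' := ?_
              inv_mem' := ?_ }, fun k => Iff.rfl⟩
    · rintro k l ⟨hk, hk'⟩ ⟨hl, hl'⟩
      refine ⟨mul_mem hk hl, fun t ht => ?_⟩
      have h1 : ⁅t, k * l⁆ = ⁅t, k⁆ * (k * ⁅t, l⁆ * k⁻¹) := by
        simp only [commutatorElement_def]; group
      rw [h1]
      exact mul_mem (hk' t ht) (conj_mem_of_le_normalizer hKD hk (hl' t ht))
    · rintro k ⟨hk, hk'⟩
      refine ⟨inv_mem hk, fun t ht => ?_⟩
      have h1 : ⁅t, k⁻¹⁆ = k⁻¹ * ⁅t, k⁆⁻¹ * k⁻¹⁻¹ := by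
        simp only [commutatorElement_def]; group
      rw [h1]
      exact conj_mem_of_le_normalizer hKD (inv_mem hk) (inv_mem (hk' t ht))
  have hPN : P ≤ N := by
    intro q hq
    rw [hN]
    refine ⟨h.PK hq, fun t ht => ?_⟩
    have ht' : t ∈ TH A P D b := h.inf_cent_le hb hb1 (hT ▸ ht)
    have hn : PP A P D b ≤ normalizer (D b : Set G) := (PP_le A P D b).trans (h.norm b hb hb1)
    obtain ⟨d, hd, y, hy, rfl⟩ := (CoprimeBasic.mem_sup_iff hn t).1 ht'
    have hyq : q * y = y * q := mem_centralizer_iff.1 (PP_le A P D b hy).2 q hq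
    have h1 : ⁅d * y, q⁆ = d * (q * d⁻¹ * q⁻¹) := by
      rw [commutatorElement_def]
      calc d * y * q * (d * y)⁻¹ * q⁻¹ = d * (y * q) * y⁻¹ * d⁻¹ * q⁻¹ := by group
        _ = d * (q * y) * y⁻¹ * d⁻¹ * q⁻¹ := by rw [hyq]
        _ = d * (q * d⁻¹ * q⁻¹) := by group
    rw [h1]
    exact mul_mem hd (conj_mem_of_le_normalizer hKD (h.PK hq) (inv_mem hd))
  have hKN : K ≤ normalizer (N : Set G) := by
    apply le_normalizer_of_conj_mem
    intro g hg k hk
    rw [hN] at hk ⊢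
    refine ⟨mul_mem (mul_mem hg hk.1) (inv_mem hg), fun t ht => ?_⟩
    have h1 : ⁅t, g * k * g⁻¹⁆ = g * ⁅g⁻¹ * t * g⁻¹⁻¹, k⁆ * g⁻¹ := by
      simp only [commutatorElement_def]; group
    rw [h1]
    exact conj_mem_of_le_normalizer hKD hg
      (hk.2 _ (conj_mem_of_le_normalizer hKT (inv_mem hg) ht))
  rw [commutator_le]
  exact fun t ht k hk => ((hN k).1 (hPK N hPN hKN hk)).2 t ht

/-- `W` is generated by the `D b`, `1 ≠ b ∈ B`, for every noncyclic `B ≤ A`. -/
theorem W_eq (hPK : ∀ N : Subgroup G, P ≤ N → K ≤ normalizer (N : Set G) → K ≤ N) {B : Subgroup G}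
    (hB : B ≤ A) (hB2 : p ^ 2 ≤ Nat.card B) : WW A D = WW B D := by
  apply le_antisymm
  · have hBe := CoprimeGen.isElementaryAbelian_mono h.el hB
    refine (Gen.le_iSup_commutator (p := p) (Y := WW A D) (Q := K) (B := B) h.perf hBe hB2
      (fun q hq c hc => h.comm q hq c (hB hc)) h.solv_W h.cop_W h.K_norm_W
      (hB.trans h.A_norm_W) h.full_W).trans (iSup_le fun b => ?_)
    rw [h.commutator_eq hPK (hB b.2.1) b.2.2]
    exact D_le_WW b.2.1 b.2.2
  · exact iSup_le fun b => D_le_WW (hB b.2.1) b.2.2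

/-- (5) An element normalising the noncyclic subgroup `B` of `A` and permuting the `D b`, `1 ≠ b ∈ B`,
normalises `W`. -/
theorem mem_normalizer_W (hPK : ∀ N : Subgroup G, P ≤ N → K ≤ normalizer (N : Set G) → K ≤ N)
    {B : Subgroup G} (hB : B ≤ A) (hB2 : p ^ 2 ≤ Nat.card B) {g : G}
    (hg : ∀ b ∈ B, g * b * g⁻¹ ∈ B)
    (hgD : ∀ b ∈ B, b ≠ 1 → ∀ x ∈ D b, g * x * g⁻¹ ∈ D (g * b * g⁻¹)) :
    g ∈ normalizer (WW A D : Set G) := by
  rw [h.W_eq hPK hB hB2]
  have h1 : WW B D ≤ (WW B D).comap (MulAut.conj g).toMonoidHom := by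
    refine iSup_le fun b x hx => ?_
    have hne : g * (b : G) * g⁻¹ ≠ 1 := by
      intro h1
      apply b.2.2
      have : (b : G) = g⁻¹ * (g * b * g⁻¹) * g := by group
      rw [this, h1]; group
    exact D_le_WW (hg b b.2.1) hne (hgD b b.2.1 b.2.2 x hx)
  have h2 : (WW B D).map (MulAut.conj g).toMonoidHom = WW B D := by
    apply Subgroup.eq_of_le_of_card_ge
    · rw [Subgroup.map_le_iff_le_comap]; exact h1
    · rw [Subgroup.card_map_of_injective (MulAut.conj g).injective]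
  rw [mem_normalizer_iff]
  intro x
  constructor
  · intro hx
    exact h1 hx
  · intro hx
    rw [← h2] at hx
    obtain ⟨y, hy, hyx⟩ := hx
    have : g * y * g⁻¹ = g * x * g⁻¹ := hyx
    have hxy : y = x := by
      calc y = g⁻¹ * (g * y * g⁻¹) * g := by group
        _ = x := by rw [this]; group
    rwa [← hxy]

end Data

end Cfsg.Agent.UGT.RelK.Functor
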