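import Cfsg.Agent.UGT.RelK.Functor
import Cfsg.Agent.UGT.Triple
import Cfsg.Agent.SignalizersComponents.PerfectGoingUp

set_option autoImplicit false
set_option linter.unusedSectionVars false

/-!
# Theorem REL-K for terminal 2-components (bb #8932, USE)

`Term A K N`: `A` is an elementary abelian 2-group centralising the (2-component) `K = ⁅K, K⁆`, and for `1 ≠ a ∈ A` the
group `N a = K O(N a)` is a 2-component of `C(a)` (the output of `UGT/TMC.lean`). Put
`DD K a = ⁅O(C(a)), K⁆ = ⁅O(C(a)), N a⁆`. If `|A| ≥ 16` then `W = ⟨DD K a : 1 ≠ a ∈ A⟩` has odd order,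
`⁅C_W(b), K⁆ = DD K b` and `W = ⟨DD K b : 1 ≠ b ∈ B⟩` for every four-group `B ≤ A`.
-/

open Cfsg Subgroup
open Cfsg.Agent.SignalizersComponents Cfsg.Agent.Lib
open Cfsg.Agent.SignalizersComponents.IntrinsicBasic
open Cfsg.Agent.SignalizersComponents.IntrinsicIntr
open Cfsg.Agent.Intrinsic.Basic Cfsg.Agent.Intrinsic.Cen Cfsg.Agent.Intrinsic.Diag
open Cfsg.Agent.Lib.CoprimeCommutator
open Cfsg.Agent.SignalizersComponents.GoldschmidtGen (le_normalizer_of_conj_mem
  conj_mem_of_le_normalizer le_normalizer_sup sup_commutator_ne)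
open Cfsg.Agent.UGT.RelK.Functor
open Cfsg.Agent.UGT.RelK.Gen (mem_cent_singleton cent_le_cent_singleton)
open scoped commutatorElement

namespace Cfsg.Agent.UGT.RelK.Out

universe u

/-! ### Perfect groups acting on solvable groups -/

section perfect

variable {G : Type u} [Group G]

theorem norm_comm {T X Y : Subgroup G} (hX : T ≤ normalizer (X : Set G))
    (hY : T ≤ normalizer (Y : Set G)) : T ≤ normalizer ((⁅X, Y⁆ : Subgroup G) : Set G) := by
  apply le_normalizer_of_conj_mem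
  intro t ht
  have h1 : ⁅X, Y⁆ ≤ (⁅X, Y⁆ : Subgroup G).comap (MulAut.conj t).toMonoidHom := by
    rw [commutator_le]
    intro x hx y hy
    show t * ⁅x, y⁆ * t⁻¹ ∈ ⁅X, Y⁆
    have h2 : t * ⁅x, y⁆ * t⁻¹ = ⁅t * x * t⁻¹, t * y * t⁻¹⁆ := by
      simp only [commutatorElement_def]; group
    rw [h2]
    exact commutator_mem_commutator (conj_mem_of_le_normalizer hX ht hx)
      (conj_mem_of_le_normalizer hY ht hy)
  exact fun x hx => h1 hx

/-- `X` normalises `⁅X, K⁆ ⊔ K`. -/
theorem norm_sup (X K : Subgroup G) : X ≤ normalizer ((K ⊔ ⁅X, K⁆ : Subgroup G) : Set G) := by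
  apply le_normalizer_of_conj_mem
  intro x hx
  have h1 : K ⊔ ⁅X, K⁆ ≤ (K ⊔ ⁅X, K⁆ : Subgroup G).comap (MulAut.conj x).toMonoidHom := by
    refine sup_le ?_ ?_
    · intro k hk
      show x * k * x⁻¹ ∈ K ⊔ ⁅X, K⁆
      have h2 : x * k * x⁻¹ = ⁅x, k⁆ * k := by rw [commutatorElement_def]; group
      rw [h2]
      exact mul_mem (mem_sup_right (commutator_mem_commutator hx hk)) (mem_sup_left hk)
    · intro c hc
      exact mem_sup_right (conj_mem_of_le_normalizer (left_le_normalizer_commutator X K) hx hc)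
  exact fun y hy => h1 hy

/-- `⁅X, K, K⁆ = ⁅X, K⁆` for a perfect group `K` acting on a solvable group `X`. -/
theorem comm_idem {X K : Subgroup G} (hK : K ≤ ⁅K, K⁆) (hX : Group.IsSolvable X)
    (hn : K ≤ normalizer (X : Set G)) : ⁅X, K⁆ ≤ ⁅⁅X, K⁆, K⁆ := by
  obtain ⟨M, hM⟩ : ∃ M, M = ⁅X, K⁆ := ⟨_, rfl⟩
  rw [← hM]
  have hMX : M ≤ X := hM ▸ commutator_le_left hn
  have hXM : X ≤ normalizer (M : Set G) := hM ▸ left_le_normalizer_commutator X K
  have hKM : K ≤ normalizer (M : Set G) := hM ▸ right_le_normalizer_commutator X K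
  have hMM : M ≤ normalizer (M : Set G) := Subgroup.le_normalizer
  obtain ⟨E, hE⟩ : ∃ E, E = ⁅M, K ⊔ M⁆ := ⟨_, rfl⟩
  have hXE : X ≤ normalizer (E : Set G) := by
    rw [hE]
    refine norm_comm hXM ?_
    rw [hM]
    exact norm_sup X K
  have hKE : K ≤ normalizer (E : Set G) := by
    rw [hE]
    exact norm_comm hKM (le_sup_left.trans Subgroup.le_normalizer)
  have h1 : ⁅⁅K, K⁆, X⁆ ≤ E := by
    refine PerfectGoingUp.three_subgroups_mod hKE hKE hXE ?_ ?_
    · rw [commutator_comm K X, ← hM, hE]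
      exact commutator_mono le_rfl le_sup_left
    · rw [← hM, hE]
      exact commutator_mono le_rfl le_sup_left
  have h2 : M ≤ E := by
    rw [hM, commutator_comm]
    exact (commutator_mono hK le_rfl).trans h1
  have hK' : K ≤ normalizer ((⁅M, K⁆ : Subgroup G) : Set G) := right_le_normalizer_commutator M K
  have hM' : M ≤ normalizer ((⁅M, K⁆ : Subgroup G) : Set G) := left_le_normalizer_commutator M K
  have h3 : E ≤ ⁅M, K⁆ ⊔ ⁅M, M⁆ := by
    rw [hE]
    refine PerfectGoingUp.commutator_sup_le (le_normalizer_sup hK' (norm_comm hKM hKM))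
      (le_normalizer_sup hM' (norm_comm hMM hMM)) le_sup_left le_sup_right
  have hMs : Group.IsSolvable M :=
    Group.isSolvable_of_isSolvable_injective (f := inclusion hMX) (inclusion_injective hMX)
  have hle : ⁅M, K⁆ ≤ M := commutator_le_left hKM
  by_contra hcon
  have hne : ⁅M, K⁆ ≠ M := fun h => hcon h.ge
  exact sup_commutator_ne hMs hle hne hM'
    (le_antisymm (sup_le hle (commutator_le_left hMM)) (h2.trans h3))

/-- A perfect subgroup of `V M`, `V` solvable and normalising `M`, lies in `M`. -/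
theorem le_of_perfect {L V M : Subgroup G} (hL : L ≤ ⁅L, L⁆) (hV : Group.IsSolvable V)
    (hn : V ≤ normalizer (M : Set G)) (hle : L ≤ V ⊔ M) : L ≤ M := by
  obtain ⟨n, hn'⟩ := hV.solvable
  have key : ∀ k : ℕ, L ≤ (derivedSeries V k).map V.subtype ⊔ M := by
    intro k
    induction k with
    | zero =>
      rw [derivedSeries_zero, ← MonoidHom.range_eq_map, Subgroup.range_subtype]
      exact hle
    | succ k ih =>
      refine hL.trans ((commutator_mono ih ih).trans ?_)
      have h1 : (derivedSeries V k).map V.subtype ≤ normalizer (M : Set G) := (map_subtype_le _).trans hn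
      refine (PerfectGoingUp.commutator_sup_sup_le h1).trans (sup_le_sup ?_ le_rfl)
      rw [derivedSeries_succ, Subgroup.map_commutator]
  have h2 := key n
  rwa [hn', Subgroup.map_bot, bot_sup_eq] at h2

end perfect

variable {G : Type u} [Group G] [Finite G]

/-- `⁅O(C(a)), K⁆` -/
def DD (K : Subgroup G) (a : G) : Subgroup G := ⁅core (centralizer ({a} : Set G)), K⁆

/-- `L = K ⁅O(H), K⁆` and `⁅O(H), L⁆ = ⁅O(H), K⁆` if `L = K O(L)` is a 2-component of `H`. -/
theorem comm_core {H L K : Subgroup G} (hL : IsComp H L) (hKL : K ≤ L)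
    (hsup : K ⊔ core L = L) (hs : Group.IsSolvable (core H)) :
    L = K ⊔ ⁅core H, K⁆ ∧ ⁅core H, L⁆ = ⁅core H, K⁆ := by
  have hKH : K ≤ H := hKL.trans hL.le
  have hLp : L ≤ ⁅L, L⁆ := hL.perfect.ge
  have hL' : L ≤ core H ⊔ (K ⊔ ⁅core H, K⁆) := by
    conv_lhs => rw [← hsup]
    exact sup_le (le_sup_left.trans le_sup_right) (hL.core_le_core.trans le_sup_left)
  have h1 : L ≤ K ⊔ ⁅core H, K⁆ := le_of_perfect hLp hs (norm_sup _ _) hL'
  have h2 : ⁅core H, L⁆ ≤ ⁅core H, K⁆ := by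
    refine (commutator_mono le_rfl h1).trans (PerfectGoingUp.commutator_sup_le
      (right_le_normalizer_commutator _ _) Subgroup.le_normalizer le_rfl ?_)
    rw [commutator_comm]
    exact commutator_le_left (left_le_normalizer_commutator _ _)
  have h3 : ⁅core H, K⁆ ≤ ⁅core H, L⁆ := commutator_mono le_rfl hKL
  have h4 : ⁅core H, L⁆ ≤ L := by
    rw [commutator_comm]
    exact commutator_le_left hL.core_le_normalizer
  exact ⟨le_antisymm h1 (sup_le hKL (h3.trans h4)), le_antisymm h2 h3⟩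

/-- `P` and its conjugates generate `K`. -/
def Gens (P K : Subgroup G) : Prop :=
  ∀ N : Subgroup G, P ≤ N → K ≤ normalizer (N : Set G) → K ≤ N

theorem gens_of_sylow {H K P : Subgroup G} (hK : IsComp H K) (hPK : P ≤ K) (hP : IsPGroup 2 P)
    (hmax : ∀ R : Subgroup G, R ≤ K → IsPGroup 2 R → P ≤ R → R = P) : Gens P K := by
  have h2 : Fact (Nat.Prime 2) := ⟨Nat.prime_two⟩
  intro N hPN hKN
  apply hK.le_of_two
  intro k hk n hn
  -- `P` as a Sylow subgroup of `K`
  have hP' : IsPGroup 2 (P.subgroupOf K) := hP.of_equiv (Subgroup.subgroupOfEquivOfLe hPK).symm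
  let S : Sylow 2 ↥K :=
    { toSubgroup := P.subgroupOf K
      isPGroup' := hP'
      is_maximal' := by
        intro Q hQ hle
        have h3 : IsPGroup 2 ↥(Q.map K.subtype) :=
          hQ.map K.subtype
        have h4 : P ≤ Q.map K.subtype := by
          intro x hx
          exact ⟨⟨x, hPK hx⟩, hle hx, rfl⟩
        have h5 := hmax _ (map_subtype_le _) h3 h4
        have h6 : Q = (Q.map K.subtype).subgroupOf K := by
          rw [Subgroup.subgroupOf, Subgroup.comap_map_eq_self_of_injective K.subtype_injective]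
        rw [h6, h5] }
  have hz : IsPGroup 2 (zpowers (⟨k, hk⟩ : ↥K)) := by
    rintro ⟨_, m, rfl⟩
    refine ⟨n, ?_⟩
    apply Subtype.ext
    have h1 : (⟨k, hk⟩ : ↥K) ^ 2 ^ n = 1 := Subtype.ext hn
    change ((⟨k, hk⟩ : ↥K) ^ m) ^ 2 ^ n = 1
    rw [← zpow_natCast, ← zpow_mul, mul_comm, zpow_mul, zpow_natCast, h1, one_zpow]
  obtain ⟨T, hT⟩ := hz.exists_le_sylow
  obtain ⟨g, hg⟩ := MulAction.exists_smul_eq ↥K S T
  have hkT : (⟨k, hk⟩ : ↥K) ∈ (g • S : Sylow 2 ↥K) := by
    rw [hg]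
    exact hT (mem_zpowers _)
  rw [← SetLike.mem_coe, Sylow.coe_smul] at hkT
  obtain ⟨y, hy, hyk⟩ := hkT
  have h7 : (g : G) * (y : G) * (g : G)⁻¹ = k := congrArg Subtype.val hyk
  have h8 : (y : G) ∈ N := hPN hy
  rw [← h7]
  exact conj_mem_of_le_normalizer hKN g.2 h8

/-- `K` is terminal with respect to `A`, modulo cores. -/
structure Term (A K : Subgroup G) (N : G → Subgroup G) : Prop where
  el : IsElementaryAbelian 2 A
  comp : IsComp K K
  comm : A ≤ centralizer (K : Set G)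
  isComp : ∀ a ∈ A, a ≠ 1 → IsComp (centralizer {a}) (N a)
  le : ∀ a ∈ A, a ≠ 1 → K ≤ N a
  sup : ∀ a ∈ A, a ≠ 1 → K ⊔ core (N a) = N a
  solv : ∀ a ∈ A, a ≠ 1 → Group.IsSolvable (core (centralizer {a}))

namespace Term

variable {A K : Subgroup G} {N : G → Subgroup G} (h : Term A K N)

include h

theorem perf : K ≤ ⁅K, K⁆ := h.comp.perfect.ge

theorem comm' : ∀ k ∈ K, ∀ a ∈ A, k * a = a * k := fun k hk a ha =>
  mem_centralizer_iff.1 (h.comm ha) k hk

theorem order {a : G} (ha : a ∈ A) (ha1 : a ≠ 1) : orderOf a = 2 :=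
  orderOf_eq_prime (h.el.2 a ha) ha1

theorem N_eq {a : G} (ha : a ∈ A) (ha1 : a ≠ 1) : N a = K ⊔ DD K a :=
  (comm_core (h.isComp a ha ha1) (h.le a ha ha1) (h.sup a ha ha1) (h.solv a ha ha1)).1

theorem DD_eq {a : G} (ha : a ∈ A) (ha1 : a ≠ 1) :
    DD K a = ⁅core (centralizer ({a} : Set G)), N a⁆ :=
  (comm_core (h.isComp a ha ha1) (h.le a ha ha1) (h.sup a ha ha1) (h.solv a ha ha1)).2.symm

theorem K_le_cent {a : G} (ha : a ∈ A) : K ≤ centralizer ({a} : Set G) := fun k hk =>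
  mem_cent_singleton.2 (h.comm' k hk a ha).symm

theorem K_norm_core {a : G} (ha : a ∈ A) : K ≤ normalizer (core (centralizer ({a} : Set G)) : Set G) :=
  (h.K_le_cent ha).trans (le_normalizer_core _)

theorem DD_le {a : G} (ha : a ∈ A) : DD K a ≤ core (centralizer ({a} : Set G)) :=
  commutator_le_left (h.K_norm_core ha)

/-- an element normalising `K` and commuting with `b` normalises `N b` -/
theorem norm_N {b g : G} (hb : b ∈ A) (hb1 : b ≠ 1) (hg : g ∈ centralizer ({b} : Set G))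
    (hgK : g ∈ normalizer (K : Set G)) : g ∈ normalizer (N b : Set G) := by
  rw [mem_normalizer_iff_cj] at hgK ⊢
  refine (h.comp.unique (h.isComp b hb hb1) (isComp_cj_of_mem (h.isComp b hb hb1) hg) (h.le b hb hb1)
    ?_).symm
  rw [← hgK]
  exact Subgroup.map_mono (h.le b hb hb1)

/-- elements of `A` fix the `N b` -/
theorem fixes {a b : G} (ha : a ∈ A) (hb : b ∈ A) (hb1 : b ≠ 1) : Fixes a (N b) := by
  have hab : a ∈ centralizer ({b} : Set G) :=
    mem_cent_singleton.2 (CoprimeGen.comm_of_isElementaryAbelian h.el b hb a ha)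
  have haK : a ∈ normalizer (K : Set G) := by
    rw [mem_normalizer_iff]
    intro k
    have h1 := h.comm ha
    constructor
    · intro hk
      have h2 := h.comm' k hk a ha
      rw [← h2, mul_inv_cancel_right]
      exact hk
    · intro hk
      have h2 := h.comm' _ hk a ha
      have h3 : a * k * a⁻¹ = k := by
        have h4 : a * k = a * (a * k * a⁻¹) := by rw [← h2]; group
        exact (mul_left_cancel h4).symm
      rwa [h3] at hk
  have hfK : Fixes a K := by
    refine ⟨haK, fun k hk => ?_⟩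
    have h1 : ⁅a, k⁆ = 1 := by
      rw [commutatorElement_def, ← h.comm' k hk a ha]; group
    rw [h1]
    exact one_mem _
  exact (fixes_iff_of_sup (h.sup b hb hb1) haK (h.norm_N hb hb1 hab haK)).1 hfK

/-- `O(C(a)) ∩ C(b)` fixes `N b` -/
theorem fixes_core {a b x : G} (ha : a ∈ A) (ha1 : a ≠ 1) (hb : b ∈ A) (hb1 : b ≠ 1)
    (hx : x ∈ core (centralizer ({a} : Set G))) (hxb : x ∈ centralizer ({b} : Set G)) :
    Fixes x (N b) := by
  by_contra hcon
  have hab : a ∈ centralizer ({b} : Set G) :=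
    mem_cent_singleton.2 (CoprimeGen.comm_of_isElementaryAbelian h.el b hb a ha)
  exact (Triple.of_not_fixes (h.isComp b hb hb1) hab (h.order ha ha1)
    (Triple.inf_le_core hx hxb) hcon).2 (h.fixes ha hb hb1)

/-- (ii) -/
theorem bal {a b : G} (ha : a ∈ A) (ha1 : a ≠ 1) (hb : b ∈ A) (hb1 : b ≠ 1) :
    ⁅DD K a ⊓ centralizer {b}, K⁆ ≤ DD K b := by
  obtain ⟨X, hX⟩ : ∃ X, X = DD K a ⊓ centralizer ({b} : Set G) := ⟨_, rfl⟩
  rw [← hX]
  have hXs : Group.IsSolvable X := by
    have := h.solv a ha ha1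
    have hle : X ≤ core (centralizer ({a} : Set G)) := hX ▸ inf_le_left.trans (h.DD_le ha)
    exact Group.isSolvable_of_isSolvable_injective (f := inclusion hle) (inclusion_injective hle)
  have hKX : K ≤ normalizer (X : Set G) := by
    rw [hX]
    apply le_normalizer_of_conj_mem
    intro k hk x hx
    refine ⟨conj_mem_of_le_normalizer (right_le_normalizer_commutator _ K) hk hx.1, ?_⟩
    have hkb := h.K_le_cent hb hk
    exact (centralizer ({b} : Set G)).mul_mem ((centralizer ({b} : Set G)).mul_mem hkb hx.2)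
      ((centralizer ({b} : Set G)).inv_mem hkb)
  have h1 : ⁅X, K⁆ ≤ core (centralizer ({b} : Set G)) := by
    rw [commutator_le]
    intro x hx k hk
    rw [hX] at hx
    exact (h.isComp b hb hb1).core_le_core
      ((h.fixes_core ha ha1 hb hb1 (h.DD_le ha hx.1) hx.2).2 k (h.le b hb hb1 hk))
  exact (comm_idem h.perf hXs hKX).trans (commutator_mono h1 le_rfl)

/-- (iii) -/
theorem norm {P : Subgroup G} (hPK : P ≤ K) (hP : Gens P K) {a : G} (ha : a ∈ A) (ha1 : a ≠ 1) :
    centralizer {a} ⊓ centralizer (P : Set G) ≤ normalizer (N a : Set G) := by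
  rintro g ⟨hga, hgP⟩
  rw [mem_normalizer_iff_cj]
  by_contra hne
  have hN := h.isComp a ha ha1
  have hN' := isComp_cj_of_mem hN hga
  have hfix : ∀ q ∈ P, Fixes q (N a) := by
    intro q hq
    refine hN.fixes_of_mem hN' (Ne.symm hne) ?_
    rw [mem_cj]
    have h1 : q * g = g * q := mem_centralizer_iff.1 hgP q hq
    have h2 : g⁻¹ * q * g = q := by rw [mul_assoc, h1]; group
    rw [h2]
    exact h.le a ha ha1 (hPK hq)
  -- the elements of `K` fixing `N a`
  obtain ⟨F, hF⟩ : ∃ F : Subgroup G, ∀ k, k ∈ F ↔ k ∈ K ∧ Fixes k (N a) := by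
    refine ⟨{ carrier := {k | k ∈ K ∧ Fixes k (N a)}
              one_mem' := ⟨one_mem _, McLLyComp.Act.fixes_one _⟩
              mul_mem' := fun hx hy => ⟨mul_mem hx.1 hy.1, McLLyComp.Act.fixes_mul hx.2 hy.2⟩
              inv_mem' := fun hx => ⟨inv_mem hx.1, McLLyComp.Act.fixes_inv hx.2⟩ }, fun _ => Iff.rfl⟩
  have hKF : K ≤ F := by
    apply hP F (fun q hq => (hF q).2 ⟨hPK hq, hfix q hq⟩)
    apply le_normalizer_of_conj_mem
    intro k hk x hx
    rw [hF] at hx ⊢
    exact ⟨mul_mem (mul_mem hk hx.1) (inv_mem hk),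
      McLLyComp.Act.fixes_conj hx.2 (Subgroup.le_normalizer (h.le a ha ha1 hk))⟩
  apply hN.not_fixes
  intro x hx
  obtain ⟨k, hk, hkx⟩ := exists_mul_of_sup (h.sup a ha ha1) hx
  have h1 : Fixes (k⁻¹ * x) (N a) := by
    refine ⟨Subgroup.le_normalizer (core_le _ hkx), fun y hy => ?_⟩
    have h2 := conj_mem_of_le_normalizer (le_normalizer_core (N a)) hy (inv_mem hkx)
    have h3 : ⁅k⁻¹ * x, y⁆ = (k⁻¹ * x) * (y * (k⁻¹ * x)⁻¹ * y⁻¹) := by
      rw [commutatorElement_def]; group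
    rw [h3]
    exact mul_mem hkx h2
  have h2 := McLLyComp.Act.fixes_mul ((hF k).1 (hKF hk)).2 h1
  have h3 : k * (k⁻¹ * x) = x := by group
  rwa [h3] at h2

/-- The hypotheses of Theorem REL-K hold. -/
theorem data (hA : 16 ≤ Nat.card A) {P : Subgroup G} (hPK : P ≤ K) (hP2 : IsPGroup 2 P)
    (hP : Gens P K) : Data 2 A K P (DD K) where
  el := h.el
  card := hA
  perf := h.perf
  comm := h.comm'
  PK := hPK
  pP := hP2
  cent := fun a ha _ => (h.DD_le ha).trans (core_le _)
  solv := fun a ha ha1 => by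
    have := h.solv a ha ha1
    exact Group.isSolvable_of_isSolvable_injective (f := inclusion (h.DD_le ha))
      (inclusion_injective (h.DD_le ha))
  cop := fun a ha _ hd => by
    have h1 := odd_card_core (centralizer ({a} : Set G))
    rw [← Nat.not_even_iff_odd, even_iff_two_dvd] at h1
    exact h1 (hd.trans (card_dvd_of_le (h.DD_le ha)))
  normK := fun a _ _ => right_le_normalizer_commutator _ _
  full := fun a ha ha1 => comm_idem h.perf (h.solv a ha ha1) (h.K_norm_core ha)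
  bal := fun a ha ha1 b hb hb1 => h.bal ha ha1 hb hb1
  norm := fun a ha ha1 => by
    rw [h.DD_eq ha ha1]
    refine norm_comm ?_ (h.norm hPK hP ha ha1)
    exact inf_le_left.trans (le_normalizer_core _)

section out

variable (hA : 16 ≤ Nat.card A) {P : Subgroup G} (hPK : P ≤ K) (hP2 : IsPGroup 2 P) (hP : Gens P K)

include hA hPK hP2 hP

/-- **Theorem REL-K** for terminal 2-components: `W` has odd order. -/
theorem odd_W : Odd (Nat.card (WW A (DD K))) := by
  have h2 : Fact (Nat.Prime 2) := ⟨Nat.prime_two⟩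
  rw [← Nat.not_even_iff_odd, even_iff_two_dvd]
  exact (h.data hA hPK hP2 hP).cop_W

theorem W_full : WW A (DD K) ≤ ⁅WW A (DD K), K⁆ := by
  have h2 : Fact (Nat.Prime 2) := ⟨Nat.prime_two⟩
  exact (h.data hA hPK hP2 hP).full_W

theorem K_norm : K ≤ normalizer (WW A (DD K) : Set G) := by
  have h2 : Fact (Nat.Prime 2) := ⟨Nat.prime_two⟩
  exact (h.data hA hPK hP2 hP).K_norm_W

theorem A_norm : A ≤ normalizer (WW A (DD K) : Set G) := by
  have h2 : Fact (Nat.Prime 2) := ⟨Nat.prime_two⟩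
  exact (h.data hA hPK hP2 hP).A_norm_W

/-- (4) -/
theorem W_inf {b : G} (hb : b ∈ A) (hb1 : b ≠ 1) : ⁅WW A (DD K) ⊓ centralizer {b}, K⁆ = DD K b := by
  have h2 : Fact (Nat.Prime 2) := ⟨Nat.prime_two⟩
  exact (h.data hA hPK hP2 hP).commutator_eq hP hb hb1

/-- `W` is generated by the `DD K b`, `1 ≠ b ∈ B`, `B` a four-group -/
theorem W_four {B : Subgroup G} (hB : B ≤ A) (hB4 : 4 ≤ Nat.card B) : WW A (DD K) = WW B (DD K) := by
  have h2 : Fact (Nat.Prime 2) := ⟨Nat.prime_two⟩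
  exact (h.data hA hPK hP2 hP).W_eq hP hB hB4

/-- (5) `g` normalises `B` and permutes the `N b`, `1 ≠ b ∈ B`. -/
theorem mem_norm_W {B : Subgroup G} (hB : B ≤ A) (hB4 : 4 ≤ Nat.card B) {g : G}
    (hg : ∀ b ∈ B, g * b * g⁻¹ ∈ B)
    (hgN : ∀ b ∈ B, b ≠ 1 → N (g * b * g⁻¹) = cj g (N b)) : g ∈ normalizer (WW A (DD K) : Set G) := by
  have h2 : Fact (Nat.Prime 2) := ⟨Nat.prime_two⟩
  refine (h.data hA hPK hP2 hP).mem_normalizer_W hP hB hB4 hg fun b hb hb1 x hx => ?_
  have hne : g * b * g⁻¹ ≠ 1 := by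
    intro h1
    apply hb1
    have : b = g⁻¹ * (g * b * g⁻¹) * g := by group
    rw [this, h1]; group
  rw [h.DD_eq (hB hb) hb1] at hx
  rw [h.DD_eq (hB (hg b hb)) hne, hgN b hb hb1, ← cj_centralizer, core_cj]
  have h3 : ⁅core (centralizer ({b} : Set G)), N b⁆ ≤
      (⁅cj g (core (centralizer ({b} : Set G))), cj g (N b)⁆ : Subgroup G).comap
        (MulAut.conj g).toMonoidHom := by
    rw [commutator_le]
    intro c hc y hy
    show g * ⁅c, y⁆ * g⁻¹ ∈ ⁅cj g (core (centralizer ({b} : Set G))), cj g (N b)⁆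
    have h4 : g * ⁅c, y⁆ * g⁻¹ = ⁅g * c * g⁻¹, g * y * g⁻¹⁆ := by
      simp only [commutatorElement_def]; group
    rw [h4]
    exact commutator_mem_commutator (conj_mem_cj hc) (conj_mem_cj hy)
  exact h3 hx

/-- an element normalising `K` and the four-group `B ≤ A` normalises `W` -/
theorem mem_norm_W' {B : Subgroup G} (hB : B ≤ A) (hB4 : 4 ≤ Nat.card B) {g : G}
    (hg : ∀ b ∈ B, g * b * g⁻¹ ∈ B) (hgK : g ∈ normalizer (K : Set G)) :
    g ∈ normalizer (WW A (DD K) : Set G) := by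
  refine h.mem_norm_W hA hPK hP2 hP hB hB4 hg fun b hb hb1 => ?_
  have hne : g * b * g⁻¹ ≠ 1 := by
    intro h1
    apply hb1
    have : b = g⁻¹ * (g * b * g⁻¹) * g := by group
    rw [this, h1]; group
  have h1 : IsComp (centralizer ({g * b * g⁻¹} : Set G)) (cj g (N b)) := by
    rw [← cj_centralizer]
    exact (h.isComp b (hB hb) hb1).cj g
  refine h.comp.unique (h.isComp _ (hB (hg b hb)) hne) h1 (h.le _ (hB (hg b hb)) hne) ?_
  rw [mem_normalizer_iff_cj] at hgK
  conv_lhs => rw [← hgK]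
  exact Subgroup.map_mono (h.le b (hB hb) hb1)

end out

/-! ### `DD K a = 1` -/

theorem N_eq_of_bot {a : G} (ha : a ∈ A) (ha1 : a ≠ 1) (hD : DD K a = ⊥) : N a = K := by
  rw [h.N_eq ha ha1, hD, sup_bot_eq]

/-- (6) if `DD K a = 1` then `K` is a component of `C(a)` -/
theorem quasisimple {a : G} (ha : a ∈ A) (ha1 : a ≠ 1) (hD : DD K a = ⊥) :
    IsComp (centralizer ({a} : Set G)) K ∧ core K ≤ centralizer (K : Set G) := by
  have h1 := h.isComp a ha ha1
  rw [h.N_eq_of_bot ha ha1 hD] at h1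
  refine ⟨h1, ?_⟩
  rw [← commutator_eq_bot_iff_le_centralizer, ← le_bot_iff, ← hD]
  exact commutator_mono h1.core_le_core le_rfl

end Term

end Cfsg.Agent.UGT.RelK.Out
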